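import Cfsg.Agent.Lib.Fusion.Product.Main
import Cfsg.Agent.Lib.Perm.PQFix.Complement
import Cfsg.Agent.Lib.Solv.AbelianTwo.Basic

/-!
# The normaliser of an abelian Sylow `2`-subgroup of a simple group is irreducible on the involutions
-/

set_option autoImplicit false
set_option linter.style.haveILetI false
set_option linter.unusedSectionVars false

open Cfsg Cfsg.Agent Cfsg.Agent.Fusion
open scoped commutatorElement

namespace Cfsg.Agent.Walter

universe u

variable {G : Type u} [Group G] [Finite G]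

/-- A subgroup of `S` invariant under `N(S)` is strongly closed when `S` is abelian. -/
theorem closed_of_invariant (S : Sylow 2 G) [IsMulCommutative ↥(S : Subgroup G)] {W : Subgroup G}
    (hW : W ≤ S) (hinv : ∀ g ∈ Subgroup.normalizer ((S : Subgroup G) : Set G), ∀ x ∈ W, g * x * g⁻¹ ∈ W) :
    Cfsg.IsStronglyClosed W (S : Subgroup G) := by
  haveI : Fact (Nat.Prime 2) := ⟨Nat.prime_two⟩
  refine ⟨hW, fun x hx g hg => ?_⟩
  obtain ⟨n, hn, e⟩ := S.conj_eq_normalizer_conj_of_mem x g⁻¹ (hW hx) (by rwa [inv_inv])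
  rw [inv_inv] at e
  have h1 := hinv n⁻¹ (Subgroup.inv_mem _ hn) x hx
  rw [inv_inv] at h1
  rwa [e]

/-- Two strongly closed subgroups meeting trivially of a simple group: one is trivial. -/
theorem eq_bot_or_of_closed [IsSimpleGroup G] (hna : ¬ IsMulCommutative G) (S : Sylow 2 G) {V W : Subgroup G}
    (hV : Cfsg.IsStronglyClosed V (S : Subgroup G)) (hW : Cfsg.IsStronglyClosed W (S : Subgroup G))
    (hVW : V ⊓ W = ⊥) : V = ⊥ ∨ W = ⊥ := by
  by_contra hcon
  push Not at hcon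
  have htop : ∀ {X : Subgroup G}, X ≠ ⊥ → Subgroup.normalClosure (X : Set G) = ⊤ := fun {X} hX =>
    (IsSimpleGroup.eq_bot_or_eq_top_of_normal _ inferInstance).resolve_left fun e =>
      hX (le_bot_iff.1 (Subgroup.le_normalClosure.trans e.le))
  have h1 := StrongProd.prodThm G S V W hV hW hVW
  rw [htop hcon.1, htop hcon.2] at h1
  haveI : (Cfsg.oddCore G).Normal := Solv.pPrimeCore_normal 2
  rcases IsSimpleGroup.eq_bot_or_eq_top_of_normal (Cfsg.oddCore G) inferInstance with e | e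
  · refine hna ⟨⟨fun a b => ?_⟩⟩
    have h2 : ⁅a, b⁆ ∈ Cfsg.oddCore G := h1 (Subgroup.commutator_mem_commutator (Subgroup.mem_top a) (Subgroup.mem_top b))
    rw [e, Subgroup.mem_bot] at h2
    exact (commutatorElement_eq_one_iff_commute.1 h2).eq
  · haveI : Fact (Nat.Prime 2) := ⟨Nat.prime_two⟩
    obtain ⟨x, hx, hx1⟩ := (Subgroup.ne_bot_iff_exists_ne_one.1 hcon.1).elim fun x hx =>
      (⟨x.1, x.2, fun e => hx (Subtype.ext e)⟩ : ∃ x ∈ V, x ≠ 1)
    obtain ⟨k, hk⟩ := S.isPGroup' ⟨x, hV.1 hx⟩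
    refine hx1 (orderOf_eq_one_iff.1 (Nat.eq_one_of_dvd_coprimes (((card_pPrimeCore_coprime 2 G).symm).pow_left k)
      (orderOf_dvd_of_pow_eq_one (congrArg Subtype.val hk :)) ?_))
    rw [show Cfsg.pPrimeCore 2 G = ⊤ from e, Subgroup.card_top]
    exact orderOf_dvd_natCard x

/-- The normaliser of `S` is irreducible on `Ω₁(S)`. -/
theorem irreducible [IsSimpleGroup G] (hna : ¬ IsMulCommutative G) (hab : Solv.AbelianTwo.Ab2 G) (S : Sylow 2 G)
    (W : Subgroup G) (hW : ∀ x ∈ W, x ∈ (S : Subgroup G) ∧ x ^ 2 = 1)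
    (hinv : ∀ g ∈ Subgroup.normalizer ((S : Subgroup G) : Set G), ∀ x ∈ W, g * x * g⁻¹ ∈ W) :
    W = ⊥ ∨ ∀ x ∈ (S : Subgroup G), x ^ 2 = 1 → x ∈ W := by
  haveI : Fact (Nat.Prime 2) := ⟨Nat.prime_two⟩
  haveI := hab S
  have hcomm : ∀ {a b : G}, a ∈ (S : Subgroup G) → b ∈ (S : Subgroup G) → Commute a b := fun ha hb =>
    Solv.AbelianTwo.commute_of_mem hab S.isPGroup' ha hb
  obtain ⟨A, hA⟩ : ∃ A : Subgroup G, ∀ x, x ∈ A ↔ x ∈ (S : Subgroup G) ∧ x ^ 2 = 1 :=
    ⟨{ carrier := {x | x ∈ (S : Subgroup G) ∧ x ^ 2 = 1}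
       one_mem' := ⟨one_mem _, one_pow 2⟩
       mul_mem' := fun {a b} ha hb => ⟨mul_mem ha.1 hb.1, by rw [(hcomm ha.1 hb.1).mul_pow, ha.2, hb.2, one_mul]⟩
       inv_mem' := fun {a} ha => ⟨inv_mem ha.1, by rw [inv_pow, ha.2, inv_one]⟩ }, fun x => Iff.rfl⟩
  obtain ⟨N, hN⟩ : ∃ N, N = Subgroup.normalizer ((S : Subgroup G) : Set G) := ⟨_, rfl⟩
  have hSN : (S : Subgroup G) ≤ N := hN ▸ Subgroup.le_normalizer
  haveI : ((S : Subgroup G).subgroupOf N).Normal := Subgroup.normal_subgroupOf_of_le_normalizer hN.le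
  obtain ⟨B, hB⟩ := Subgroup.exists_right_complement'_of_coprime (N := (S : Subgroup G).subgroupOf N)
    (Sylow.card_coprime_index (S.subtype hSN))
  have hBcop : (Nat.card (B.map N.subtype)).Coprime 2 := by
    rw [Solv.card_map_subtype, ← hB.symm.index_eq_card]
    exact (Nat.prime_two.coprime_iff_not_dvd.2 (S.subtype hSN).not_dvd_index).symm
  have hBN : ∀ b ∈ B.map N.subtype, b ∈ Subgroup.normalizer ((S : Subgroup G) : Set G) := fun b hb =>
    hN ▸ Subgroup.map_subtype_le _ hb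
  have hnA : ∀ g ∈ Subgroup.normalizer ((S : Subgroup G) : Set G), ∀ x ∈ A, g * x * g⁻¹ ∈ A := fun g hg x hx => by
    rw [hA] at hx ⊢
    exact ⟨(Subgroup.mem_normalizer_iff.1 hg x).1 hx.1, by rw [conj_pow, hx.2, mul_one, mul_inv_cancel]⟩
  have hWA : W ≤ A := fun x hx => (hA x).2 (hW x hx)
  obtain ⟨E, -, hEA, hBE, hEW, hcov⟩ := Perm.PQFix.exists_invariant_complement_section (B.map N.subtype) A ⊥ W
    Nat.prime_two (fun b hb => mem_normalizer_of_cj_le (by
      rintro _ ⟨x, hx, rfl⟩; exact hnA b (hBN b hb) x hx))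
    (fun b hb => mem_normalizer_of_cj_le (by rintro _ ⟨x, hx, rfl⟩; exact hinv b (hBN b hb) x hx))
    bot_le hWA (by rw [Subgroup.normalizer_eq_top_iff.2 inferInstance]; exact le_top)
    (by rw [Subgroup.normalizer_eq_top_iff.2 inferInstance]; exact le_top)
    (fun a ha b hb => Subgroup.mem_bot.2 (commutatorElement_eq_one_iff_commute.2
      (hcomm ((hA a).1 ha).1 ((hA b).1 hb).1)))
    (fun a ha => Subgroup.mem_bot.2 ((hA a).1 ha).2) hBcop
  have hES : E ≤ (S : Subgroup G) := fun x hx => ((hA x).1 (hEA hx)).1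
  have hEinv : ∀ g ∈ Subgroup.normalizer ((S : Subgroup G) : Set G), ∀ x ∈ E, g * x * g⁻¹ ∈ E := by
    intro g hg x hx
    obtain ⟨s, hs, b, hb, e⟩ : ∃ s ∈ (S : Subgroup G), ∃ b ∈ B.map N.subtype, g = s * b := by
      obtain ⟨⟨⟨s, hs⟩, ⟨b, hb⟩⟩, e, -⟩ := hB.existsUnique (⟨g, hN ▸ hg⟩ : ↥N)
      exact ⟨s, hs, b, ⟨b, hb, rfl⟩, (congrArg Subtype.val e).symm⟩
    subst e
    have h1 := (Subgroup.mem_normalizer_iff.1 (hBE hb) x).1 hx
    have h2 := (hcomm hs (hES h1)).eq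
    rw [show s * b * x * (s * b)⁻¹ = s * (b * x * b⁻¹) * s⁻¹ by group, h2, mul_inv_cancel_right]
    exact h1
  rcases eq_bot_or_of_closed hna S (closed_of_invariant S (fun x hx => (hW x hx).1) hinv)
      (closed_of_invariant S hES hEinv) (by rw [inf_comm]; exact hEW) with h | h
  · exact Or.inl h
  · refine Or.inr fun x hx hx2 => ?_
    obtain ⟨r, hr, he⟩ := hcov x ((hA x).2 ⟨hx, hx2⟩)
    rw [h, Subgroup.mem_bot, inv_mul_eq_one] at he
    exact he ▸ hr

end Cfsg.Agent.Walter
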