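import Cfsg.Agent.Lib.Walter.Core.BlockMain
import Cfsg.Agent.Lib.Walter.CentralizerShape

/-!
# The block case: the statement
-/

set_option autoImplicit false
set_option linter.style.haveILetI false

open Cfsg Cfsg.Agent Cfsg.Agent.Fusion

namespace Cfsg.Agent.Walter

open Cfsg.Agent.Solv.AbelianTwo (Ab2)

universe u

/-- A quotient of a group with abelian Sylow `2`-subgroups has abelian Sylow `2`-subgroups. -/
theorem ab2_quotient {X : Type u} [Group X] [Finite X] (h : Ab2 X) (N : Subgroup X) [N.Normal] : Ab2 (X ⧸ N) := by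
  haveI : Fact (Nat.Prime 2) := ⟨Nat.prime_two⟩
  intro S
  obtain ⟨R⟩ : Nonempty (Sylow 2 X) := inferInstance
  obtain ⟨g, hg⟩ := MulAction.exists_smul_eq (X ⧸ N) (R.mapSurjective (QuotientGroup.mk'_surjective N)) S
  obtain ⟨x, rfl⟩ := QuotientGroup.mk'_surjective N g
  refine ⟨⟨fun a b => Subtype.ext ?_⟩⟩
  have key : ∀ y ∈ (S : Subgroup (X ⧸ N)), ∃ r ∈ (R : Subgroup X), y = QuotientGroup.mk' N (x * r * x⁻¹) := by
    intro y hy
    rw [← hg] at hy
    obtain ⟨z, ⟨r, hr, rfl⟩, rfl⟩ := hy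
    exact ⟨r, hr, by simp⟩
  obtain ⟨a', ha', ea⟩ := key a a.2
  obtain ⟨b', hb', eb⟩ := key b b.2
  show (a : X ⧸ N) * b = b * a
  rw [ea, eb, ← map_mul, ← map_mul]
  refine congrArg _ ?_
  have hc := (Solv.AbelianTwo.commute_of_mem h R.isPGroup' ha' hb').eq
  calc x * a' * x⁻¹ * (x * b' * x⁻¹) = x * (a' * b') * x⁻¹ := by group
    _ = x * b' * x⁻¹ * (x * a' * x⁻¹) := by rw [hc]; group

theorem coreFree_quotient {X : Type u} [Group X] [Finite X] (h : Ab2 X) : CoreFree (X ⧸ Cfsg.oddCore X) :=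
  ⟨ab2_quotient h _, pPrimeCore_quotient_eq_bot⟩

theorem oddIndex_of_ab {G : Type u} [Group G] [Finite G] (h : Ab2 G) : OddIndex G := fun c _ =>
  (coreFree_quotient (Solv.AbelianTwo.of_injective h (Subgroup.centralizer ({c} : Set G)).subtype
    (Subgroup.subtype_injective _))).gfit_odd_index

/-- The block case does not occur. -/
theorem blocksStatement_of (hsol : ∀ (X : Type u) [Group X] [Finite X], SEB.Sol X) : BlocksStatement.{u} :=
  fun _ _ _ hG _ _ h => blocks_false h hG (oddIndex_of_ab hG.ab) hsol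

end Cfsg.Agent.Walter
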