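import Cfsg.Agent.Lib.Walter.Defs

/-!
# The statements of the core part of the theorem on abelian Sylow `2`-subgroups

The analysis of components modulo cores leaves three cases: all involution centralisers solvable, `Blocks` and
`RankThree`.  The first is S3188, the second is contradictory, in the third the cores of the centralisers are trivial.
See `notes/walter_coreA_helper5.md`.
-/

set_option autoImplicit false

namespace Cfsg.Agent.Walter

open Subgroup Cfsg.Agent.Solv.AbelianTwo

universe u

variable {G : Type u} [Group G]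

/-- The image of `T` in `C(c)/O(C(c))` centralises `J`. -/
def FixesMod (c : G) (T : Subgroup G)
    (J : Subgroup (↥(centralizer ({c} : Set G)) ⧸ Cfsg.oddCore ↥(centralizer ({c} : Set G)))) : Prop :=
  ∀ t : ↥(centralizer ({c} : Set G)), (t : G) ∈ T → ∀ j ∈ J,
    Commute (t : ↥(centralizer ({c} : Set G)) ⧸ Cfsg.oddCore ↥(centralizer ({c} : Set G))) j

/-- A minimal simple group with abelian Sylow `2`-subgroups. -/
structure MinHyp (G : Type u) [Group G] : Prop where
  simple : IsSimpleGroup G
  nonab : ¬ IsMulCommutative G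
  ab : Ab2 G
  below : Below.{u} (Nat.card G)

/-- `A = Ω₁(S)` is the product of at least three blocks, every component of `C(c)/O(C(c))` belongs to exactly one
block, and for each block avoided by `c` there is exactly one such component. -/
structure Blocks (A : Subgroup G) (B : Finset (Subgroup G)) : Prop where
  sylow : ∃ S : Sylow 2 G, A ≤ S ∧ ∀ x ∈ (S : Subgroup G), x ^ 2 = 1 → x ∈ A
  sq : ∀ x ∈ A, x ^ 2 = 1
  three : 3 ≤ B.card
  span : A = ⨆ T ∈ B, T
  indep : ∀ T ∈ B, T ⊓ (⨆ U ∈ B, ⨆ _ : U ≠ T, U) = ⊥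
  big : ∀ T ∈ B, 4 ≤ Nat.card T
  perm : ∀ g ∈ normalizer (A : Set G), ∀ T ∈ B, T.map (MulAut.conj g).toMonoidHom ∈ B
  fixed : ∀ c ∈ A, c ≠ 1 → ∀ J, Cfsg.IsComponent J →
    ∃ T ∈ B, ¬ FixesMod c T J ∧ ∀ U ∈ B, U ≠ T → FixesMod c U J
  comp : ∀ T ∈ B, ∀ c ∈ (⨆ U ∈ B, ⨆ _ : U ≠ T, U), c ≠ 1 →
    ∃! J, Cfsg.IsComponent J ∧ ¬ FixesMod c T J

/-- The Sylow `2`-subgroups are elementary of order `8` and no involution has a solvable centraliser. -/
structure RankThree (G : Type u) [Group G] : Prop where
  eight : ∀ S : Sylow 2 G, Nat.card (S : Subgroup G) = 8 ∧ ∀ x ∈ (S : Subgroup G), x ^ 2 = 1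
  nonsolv : ∀ t : G, orderOf t = 2 → ¬ Group.IsSolvable ↥(centralizer ({t} : Set G))

/-- The block case does not occur. -/
def BlocksStatement : Prop :=
  ∀ (G : Type u) [Group G] [Finite G], MinHyp G → ∀ (A : Subgroup G) (B : Finset (Subgroup G)), Blocks A B → False

/-- In rank three the cores of the involution centralisers are trivial. -/
def RankThreeStatement : Prop :=
  ∀ (G : Type u) [Group G] [Finite G], MinHyp G → RankThree G →
    ∀ t : G, orderOf t = 2 → Cfsg.oddCore ↥(centralizer ({t} : Set G)) = ⊥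

end Cfsg.Agent.Walter
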