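import Cfsg.Agent.Lib.Walter.Core.BlockFunctor

/-!
# What contains the centralisers of two blocks contains all cores

Equivariance of the functor, and the decomposition of `O(C(c))` by three blocks.
-/

set_option autoImplicit false
set_option linter.style.haveILetI false
set_option linter.unusedSectionVars false

open Cfsg Cfsg.Agent Cfsg.Agent.Fusion
open scoped commutatorElement Pointwise

namespace Cfsg.Agent.Walter

open Cfsg.Agent.Solv.CoreSep (coreS coreS_le coreS_norm coreS_odd th)

universe u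

variable {G : Type u} [Group G] [Finite G] {A : Subgroup G} {B : Finset (Subgroup G)}

theorem cj_coreS_le (T : Subgroup G) (g : G) : cj (coreS (T : Set G)) g ≤ coreS ((cj T g : Subgroup G) : Set G) := by
  refine le_coreS ?_ ?_ ?_
  · exact (cj_mono (coreS_le _) g).trans (cj_centralizer T g).le
  · rw [← cj_centralizer, ← cj_normalizer]
    exact cj_mono (coreS_norm _) g
  · rw [card_cj]
    exact coreS_odd _

theorem cj_th_le (T : Subgroup G) (a g : G) : cj (th T a) g ≤ th (cj T g) (g * a * g⁻¹) := by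
  have h1 : cj (oc a) g ≤ oc (g * a * g⁻¹) := StrongProd.cj_O_le a g
  rw [th, cj_sup, cj_commutator, cj_inf]
  exact sup_le_sup (Subgroup.commutator_mono h1 le_rfl) (inf_le_inf h1 (cj_coreS_le T g))

namespace Sep

variable (h : Sep A B)
include h

/-- An element fixing `a` and two blocks fixes `θ(a)`. -/
theorem cj_theta_le {T U : Subgroup G} (hT : T ∈ B) (hU : U ∈ B) (hne : T ≠ U) {g : G} (hT' : cj T g ∈ B)
    (hU' : cj U g ∈ B) {a : G} (ha : a ∈ A) (ha' : g * a * g⁻¹ ∈ A) :
    cj (blockTheta B a) g ≤ blockTheta B (g * a * g⁻¹) := by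
  have hne' : cj T g ≠ cj U g := fun e => hne (by rw [← cj_cj_inv T g, e, cj_cj_inv])
  rw [h.theta_eq hT hU hne ha, h.theta_eq hT' hU' hne' ha', cj_inf]
  exact inf_le_inf (cj_th_le T a g) (cj_th_le U a g)

theorem centralizer_pair_le_norm {T U : Subgroup G} (hT : T ∈ B) (hU : U ∈ B) (hne : T ≠ U) :
    Subgroup.centralizer ((T ⊔ U : Subgroup G) : Set G) ≤ Subgroup.normalizer (blockW A B : Set G) := by
  intro g hg
  refine mem_normalizer_of_cj_le ?_
  have hfix : ∀ V : Subgroup G, V ≤ T ⊔ U → cj V g = V := fun V hV => cj_eq_self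
    (Subgroup.centralizer_le_normalizer _ (Subgroup.centralizer_le (SetLike.coe_subset_coe.2 hV) hg))
  rw [cj_le_iff]
  refine h.W_le_block hT fun c hc hc1 => ?_
  rw [← cj_le_iff]
  have e : g * c * g⁻¹ = c := by
    rw [← Subgroup.mem_centralizer_iff.1 hg c (Subgroup.mem_sup_left hc), mul_inv_cancel_right]
  refine le_trans (h.cj_theta_le hT hU hne (by rw [hfix T le_sup_left]; exact hT)
    (by rw [hfix U le_sup_right]; exact hU) (h.le T hT hc) (by rw [e]; exact h.le T hT hc)) ?_
  rw [e]
  exact theta_le_W (h.le T hT hc) hc1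

theorem normalizer_le_norm (hperm : ∀ g ∈ Subgroup.normalizer (A : Set G), ∀ T ∈ B, cj T g ∈ B) :
    Subgroup.normalizer (A : Set G) ≤ Subgroup.normalizer (blockW A B : Set G) := by
  obtain ⟨T, hT, U, hU, hne⟩ := h.exists_two
  intro g hg
  refine mem_normalizer_of_cj_le ?_
  rw [cj_le_iff]
  refine h.W_le_block hT fun c hc hc1 => ?_
  rw [← cj_le_iff]
  have hA : g * c * g⁻¹ ∈ A := Solv.conj_mem_of_mem_normalizer hg (h.le T hT hc)
  exact (h.cj_theta_le hT hU hne (hperm g hg T hT) (hperm g hg U hU) (h.le T hT hc) hA).trans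
    (theta_le_W hA fun e => hc1 (conj_eq_one_iff.1 e))

/-- Commutators with two different blocks lie in `θ`. -/
theorem comm_comm_le {T U : Subgroup G} (hT : T ∈ B) (hU : U ∈ B) (hne : T ≠ U) {c : G} (hc : c ∈ A)
    {X : Subgroup G} (hX : X ≤ oc c) (hAX : A ≤ Subgroup.normalizer (X : Set G)) :
    ⁅⁅X, T⁆, U⁆ ≤ blockTheta B c := by
  rw [h.theta_eq hT hU hne hc]
  obtain ⟨h1, -, -⟩ := Solv.commutator_normal_in ((h.le T hT).trans hAX)
  have h3 : U ≤ Subgroup.normalizer ((⁅X, T⁆ : Subgroup G) : Set G) := fun b hb => by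
    refine mem_normalizer_of_cj_le ?_
    rw [cj_commutator, cj_eq_self (hAX (h.le U hU hb)),
      cj_eq_self (Subgroup.centralizer_le_normalizer _ (h.le_centralizer_block hT (h.le U hU hb)))]
  exact le_inf ((Solv.commutator_normal_in h3).1.trans ((Subgroup.commutator_mono hX le_rfl).trans le_sup_left))
    ((Subgroup.commutator_mono (h1.trans hX) le_rfl).trans le_sup_left)

/-- `A` normalises a commutator with a block. -/
theorem norm_comm {T : Subgroup G} (hT : T ∈ B) {X : Subgroup G} (hAX : A ≤ Subgroup.normalizer (X : Set G)) :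
    A ≤ Subgroup.normalizer ((⁅X, T⁆ : Subgroup G) : Set G) := fun b hb => by
  refine mem_normalizer_of_cj_le ?_
  rw [cj_commutator, cj_eq_self (hAX hb),
    cj_eq_self (Subgroup.centralizer_le_normalizer _ (h.le_centralizer_block hT hb))]

theorem norm_cent {T : Subgroup G} (hT : T ∈ B) {X : Subgroup G} (hAX : A ≤ Subgroup.normalizer (X : Set G)) :
    A ≤ Subgroup.normalizer ((X ⊓ Subgroup.centralizer (T : Set G) : Subgroup G) : Set G) :=
  Solv.normalizer_smul_inf hAX ((h.le_centralizer_block hT).trans Subgroup.le_normalizer)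

/-- Decomposition with respect to a block. -/
theorem decompose {T : Subgroup G} (hT : T ∈ B) {c : G} {X M : Subgroup G} (hX : X ≤ oc c)
    (hAX : A ≤ Subgroup.normalizer (X : Set G)) (h1 : ⁅X, T⁆ ≤ M)
    (h2 : X ⊓ Subgroup.centralizer (T : Set G) ≤ M) : X ≤ M := by
  intro x hx
  obtain ⟨n, hn, v, hv, rfl⟩ := Solv.exists_commutator_mul_fixed ((h.le T hT).trans hAX)
    (h.coprime (h.le T hT) (coprime_le hX (oc_coprime c))) (Or.inl (h.solvable (h.le T hT))) hx
  exact M.mul_mem (h1 hn) (h2 hv)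

/-- A subgroup over the centralisers of pairs of blocks and over `θ(c)` contains `O(C(c))`. -/
theorem oc_le_of {M : Subgroup G}
    (hpair : ∀ T ∈ B, ∀ U ∈ B, T ≠ U → Subgroup.centralizer ((T ⊔ U : Subgroup G) : Set G) ≤ M)
    {c : G} (hc : c ∈ A) (hθ : blockTheta B c ≤ M) : oc c ≤ M := by
  obtain ⟨T, hT, U, hU, hne⟩ := h.exists_two
  obtain ⟨V, hV, hVT, hVU⟩ := h.exists_third T U
  have hfix : ∀ {T U : Subgroup G}, T ∈ B → U ∈ B → T ≠ U → ∀ {X : Subgroup G},
      X ≤ Subgroup.centralizer (T : Set G) → X ⊓ Subgroup.centralizer (U : Set G) ≤ M := by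
    intro T U hT hU hne X hXT x hx
    refine hpair T hT U hU hne (Subgroup.mem_centralizer_iff.2 fun y hy => ?_)
    have h1 : T ⊔ U ≤ Subgroup.centralizer ({x} : Set G) := sup_le
      (fun t ht => Subgroup.mem_centralizer_singleton_iff.2
        (Subgroup.mem_centralizer_iff.1 (hXT (Subgroup.mem_inf.1 hx).1) t ht))
      (fun t ht => Subgroup.mem_centralizer_singleton_iff.2
        (Subgroup.mem_centralizer_iff.1 (Subgroup.mem_inf.1 hx).2 t ht))
    exact Subgroup.mem_centralizer_singleton_iff.1 (h1 hy)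
  have hA := h.norm_oc hc
  have hY : ⁅oc c, T⁆ ≤ oc c := (Solv.commutator_normal_in ((h.le T hT).trans hA)).1
  refine h.decompose hT le_rfl hA ?_ ?_
  · refine h.decompose hU hY (h.norm_comm hT hA) ((h.comm_comm_le hT hU hne hc le_rfl hA).trans hθ) ?_
    refine h.decompose hV (inf_le_left.trans hY) (h.norm_cent hU (h.norm_comm hT hA)) ?_
      (hfix hU hV hVU.symm inf_le_right)
    exact (Subgroup.commutator_mono inf_le_left le_rfl).trans ((h.comm_comm_le hT hV hVT.symm hc le_rfl hA).trans hθ)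
  · have hX : oc c ⊓ Subgroup.centralizer (T : Set G) ≤ oc c := inf_le_left
    have hAX := h.norm_cent hT hA
    refine h.decompose hU hX hAX ?_ (hfix hT hU hne inf_le_right)
    refine h.decompose hV ((Solv.commutator_normal_in ((h.le U hU).trans hAX)).1.trans hX) (h.norm_comm hU hAX)
      ((h.comm_comm_le hU hV hVU.symm hc hX hAX).trans hθ) ?_
    exact hfix hT hV hVT.symm ((Solv.commutator_normal_in ((h.le U hU).trans hAX)).1.trans inf_le_right)

end Sep

end Cfsg.Agent.Walter
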