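import Cfsg.Agent.Lib.Walter.Core.BlockTools

/-!
# Goldschmidt's functor of the blocks

`θ(a) = th T a ∩ th U a` is the same for all pairs of different blocks, and is balanced on `A`.
-/

set_option autoImplicit false
set_option linter.style.haveILetI false
set_option linter.unusedSectionVars false

open Cfsg Cfsg.Agent Cfsg.Agent.Fusion
open scoped commutatorElement Pointwise

namespace Cfsg.Agent.Walter

open Cfsg.Agent.Solv (CycQuot)
open Cfsg.Agent.Solv.CoreSep (coreS coreS_le coreS_norm coreS_odd th)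

universe u

variable {G : Type u} [Group G] [Finite G] {A : Subgroup G} {B : Finset (Subgroup G)}

namespace Sep

variable (h : Sep A B)
include h

/-- An element of `th T a` centralises the components fixed by `T`. -/
theorem th_cent {T : Subgroup G} (hT : T ∈ B) {a b : G} (ha : a ∈ A) (hb : b ∈ A)
    {J} (hJ : Cfsg.IsComponent J) (hfix : FixesMod b T J)
    {x : ↥(Subgroup.centralizer ({b} : Set G))} (hx : (x : G) ∈ th T a) :
    QuotientGroup.mk' (Cfsg.pPrimeCore 2 ↥(Subgroup.centralizer ({b} : Set G))) x ∈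
      Subgroup.centralizer (J : Set _) := by
  haveI : Fact (Nat.Prime 2) := ⟨Nat.prime_two⟩
  set Cb := Subgroup.centralizer ({b} : Set G) with hCb
  have hTC : T ≤ Cb := (h.le T hT).trans (h.le_centralizer hb)
  have hDn : T.subgroupOf Cb ≤ Subgroup.normalizer (((th T a).subgroupOf Cb : Subgroup ↥Cb) : Set ↥Cb) :=
    fun t ht => Subgroup.mem_normalizer_iff.2 fun y =>
      Subgroup.mem_normalizer_iff.1 (h.th_norm hT ha (h.le T hT ht)) y
  have hodd : (Nat.card ↥((th T a).subgroupOf Cb)).Coprime 2 := by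
    refine (oc_coprime a).coprime_dvd_left ?_
    rw [← Solv.card_map_subtype, Subgroup.subgroupOf_map_subtype]
    exact Subgroup.card_dvd_of_le (inf_le_left.trans (h.th_le hT ha))
  have hco : (Nat.card ↥(T.subgroupOf Cb)).Coprime (Nat.card ↥((th T a).subgroupOf Cb)) := by
    rw [Solv.card_subgroupOf hTC]
    have := h.coprime (h.le T hT) (X := ((th T a).subgroupOf Cb).map Cb.subtype)
      (by rw [Solv.card_map_subtype]; exact hodd)
    rwa [Solv.card_map_subtype] at this
  have hsolT : Group.IsSolvable ↥(T.subgroupOf Cb) :=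
    Group.isSolvable_of_comm fun s t => Subtype.ext (Subtype.ext (h.commute (h.le T hT s.2) (h.le T hT t.2) :))
  obtain ⟨n, hn, v, hv, rfl⟩ := Solv.exists_commutator_mul_fixed hDn hco (Or.inl hsolT) (Subgroup.mem_subgroupOf.2 hx)
  rw [map_mul]
  refine mul_mem ?_ ?_
  · have haC : a ∈ Cb := h.le_centralizer hb ha
    set W := (oc a).subgroupOf Cb with hW
    have h1 : W ≤ Subgroup.centralizer {(⟨a, haC⟩ : ↥Cb)} := fun w hw =>
      Subgroup.mem_centralizer_singleton_iff.2 (Subtype.ext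
        (Subgroup.mem_centralizer_singleton_iff.1 (oc_le a hw)))
    have h2 : Subgroup.centralizer {(⟨a, haC⟩ : ↥Cb)} ≤ Subgroup.normalizer (W : Set ↥Cb) := fun w hw =>
      Subgroup.mem_normalizer_iff.2 fun y => Subgroup.mem_normalizer_iff.1 (oc_norm a
        (Subgroup.mem_centralizer_singleton_iff.2 (congrArg Subtype.val (Subgroup.mem_centralizer_singleton_iff.1 hw)))) y
    have h3 : (Nat.card W).Coprime 2 := by
      refine (oc_coprime a).coprime_dvd_left ?_
      rw [← Solv.card_map_subtype, Subgroup.subgroupOf_map_subtype]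
      exact Subgroup.card_dvd_of_le inf_le_left
    exact Solv.CoreSep.comm_cent (Solv.CoreSep.normalizes (Subtype.ext (h.sq a ha)) h1 h2 h3 hJ)
      (fun t ht j hj => (hfix t ht j hj).eq)
      ⟨n, Subgroup.commutator_mono (K₁ := W) (fun y hy => h.th_le hT ha hy) le_rfl hn, rfl⟩
  · have hvT : (v : G) ∈ Subgroup.centralizer (T : Set G) := Subgroup.mem_centralizer_iff.2 fun t ht =>
      congrArg Subtype.val (Subgroup.mem_centralizer_iff.1 (Subgroup.mem_inf.1 hv).2 ⟨t, hTC ht⟩ ht)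
    refine Solv.CoreSep.fixed_component_cent (T := T.subgroupOf Cb) ((h.pgroup (h.le T hT)).comap_subtype (K := Cb))
      (W := (coreS (T : Set G)).subgroupOf Cb) (fun w hw => Subgroup.mem_centralizer_iff.2 fun t ht =>
        Subtype.ext (Subgroup.mem_centralizer_iff.1 (coreS_le _ hw) _ ht))
      (fun w hw => Subgroup.mem_normalizer_iff.2 fun y => Subgroup.mem_normalizer_iff.1 (coreS_norm _
        (Subgroup.mem_centralizer_iff.2 fun t ht => congrArg Subtype.val
          (Subgroup.mem_centralizer_iff.1 hw ⟨t, hTC ht⟩ ht))) y)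
      ?_ hJ (fun t ht j hj => (hfix t ht j hj).eq)
      ⟨v, h.th_fixed hT ha (Subgroup.mem_inf.2 ⟨(Subgroup.mem_inf.1 hv).1, hvT⟩), rfl⟩
    refine (coreS_odd (T : Set G)).coprime_dvd_left ?_
    rw [← Solv.card_map_subtype, Subgroup.subgroupOf_map_subtype]
    exact Subgroup.card_dvd_of_le inf_le_left

/-- The intersection lies in the core of `C(b)`. -/
theorem balance_core {T U : Subgroup G} (hT : T ∈ B) (hU : U ∈ B) (hne : T ≠ U) {a b : G} (ha : a ∈ A) (hb : b ∈ A)
    (hb1 : b ≠ 1) : th T a ⊓ th U a ⊓ Subgroup.centralizer ({b} : Set G) ≤ oc b := by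
  intro x hx
  obtain ⟨hx12, hxb⟩ := Subgroup.mem_inf.1 hx
  obtain ⟨hx₁, hx₂⟩ := Subgroup.mem_inf.1 hx12
  set Cb := Subgroup.centralizer ({b} : Set G) with hCb
  have haC : a ∈ Cb := h.le_centralizer hb ha
  set W := (oc a).subgroupOf Cb with hW
  have h1 : W ≤ Subgroup.centralizer {(⟨a, haC⟩ : ↥Cb)} := fun w hw =>
    Subgroup.mem_centralizer_singleton_iff.2 (Subtype.ext
      (Subgroup.mem_centralizer_singleton_iff.1 (oc_le a hw)))
  have h2 : Subgroup.centralizer {(⟨a, haC⟩ : ↥Cb)} ≤ Subgroup.normalizer (W : Set ↥Cb) := fun w hw =>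
    Subgroup.mem_normalizer_iff.2 fun y => Subgroup.mem_normalizer_iff.1 (oc_norm a
      (Subgroup.mem_centralizer_singleton_iff.2 (congrArg Subtype.val (Subgroup.mem_centralizer_singleton_iff.1 hw)))) y
  have h3 : (Nat.card W).Coprime 2 := by
    refine (oc_coprime a).coprime_dvd_left ?_
    rw [← Solv.card_map_subtype, Subgroup.subgroupOf_map_subtype]
    exact Subgroup.card_dvd_of_le inf_le_left
  refine ⟨⟨x, hxb⟩, Solv.CoreSep.mem_core (Subtype.ext (h.sq a ha)) h1 h2 h3
    (show (⟨x, hxb⟩ : ↥Cb) ∈ W from h.th_le hT ha hx₁) fun J hJ => ?_, rfl⟩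
  rcases h.fixed_pair hT hU hne hb hb1 hJ with hf | hf
  · exact h.th_cent hT ha hb hJ hf hx₁
  · exact h.th_cent hU ha hb hJ hf hx₂

/-- The fixed part at a block lies in the core of its centraliser. -/
theorem fixed_le_coreS {T U V : Subgroup G} (hT : T ∈ B) (hU : U ∈ B) (hne : T ≠ U) (hV : V ∈ B) {a : G} (ha : a ∈ A) :
    th T a ⊓ th U a ⊓ Subgroup.centralizer (V : Set G) ≤ coreS (V : Set G) := by
  intro x hx
  obtain ⟨hxD, hxV⟩ := Subgroup.mem_inf.1 hx
  obtain ⟨c, hc, hc1⟩ := h.exists_ne_one hV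
  exact oc_inf_le_coreS hc (Subgroup.mem_inf.2 ⟨h.balance_core hT hU hne ha (h.le V hV hc) hc1
    (Subgroup.mem_inf.2 ⟨hxD, Subgroup.centralizer_le (Set.singleton_subset_iff.2 hc) hxV⟩), hxV⟩)

/-- Two factors determine every third. -/
theorem le_third {T U V : Subgroup G} (hT : T ∈ B) (hU : U ∈ B) (hne : T ≠ U) (hV : V ∈ B) {a : G} (ha : a ∈ A) :
    th T a ⊓ th U a ≤ th V a := by
  intro x hx
  have hVn : V ≤ Subgroup.normalizer ((th T a ⊓ th U a : Subgroup G) : Set G) :=
    (h.le V hV).trans (Solv.normalizer_smul_inf (h.th_norm hT ha) (h.th_norm hU ha))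
  have hDa : th T a ⊓ th U a ≤ oc a := inf_le_left.trans (h.th_le hT ha)
  obtain ⟨n, hn, v, hv, rfl⟩ := Solv.exists_commutator_mul_fixed hVn
    (h.coprime (h.le V hV) (coprime_le hDa (oc_coprime a))) (Or.inl (h.solvable (h.le V hV))) hx
  refine mul_mem (Subgroup.mem_sup_left (Subgroup.commutator_mono hDa le_rfl hn))
    (Subgroup.mem_sup_right (Subgroup.mem_inf.2 ⟨hDa (Subgroup.mem_inf.1 hv).1, h.fixed_le_coreS hT hU hne hV ha hv⟩))

/-- All pairs give the same subgroup. -/
theorem pair_eq {T U T' U' : Subgroup G} (hT : T ∈ B) (hU : U ∈ B) (hne : T ≠ U) (hT' : T' ∈ B) (hU' : U' ∈ B)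
    (hne' : T' ≠ U') {a : G} (ha : a ∈ A) : th T a ⊓ th U a = th T' a ⊓ th U' a :=
  le_antisymm (le_inf (h.le_third hT hU hne hT' ha) (h.le_third hT hU hne hU' ha))
    (le_inf (h.le_third hT' hU' hne' hT ha) (h.le_third hT' hU' hne' hU ha))

/-- The balance condition. -/
theorem balance {T U V : Subgroup G} (hT : T ∈ B) (hU : U ∈ B) (hne : T ≠ U) (hV : V ∈ B) {a b : G} (ha : a ∈ A)
    (hb : b ∈ A) (hb1 : b ≠ 1) : th T a ⊓ th U a ⊓ Subgroup.centralizer ({b} : Set G) ≤ th V b := by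
  intro x hx
  set D := th T a ⊓ th U a ⊓ Subgroup.centralizer ({b} : Set G) with hD
  have hDn : V ≤ Subgroup.normalizer (D : Set G) := (h.le V hV).trans
    (Solv.normalizer_smul_inf (Solv.normalizer_smul_inf (h.th_norm hT ha) (h.th_norm hU ha))
      ((h.le_centralizer hb).trans Subgroup.le_normalizer))
  have hDb : D ≤ oc b := h.balance_core hT hU hne ha hb hb1
  obtain ⟨n, hn, v, hv, rfl⟩ := Solv.exists_commutator_mul_fixed hDn
    (h.coprime (h.le V hV) (coprime_le hDb (oc_coprime b))) (Or.inl (h.solvable (h.le V hV))) hx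
  refine mul_mem (Subgroup.mem_sup_left (Subgroup.commutator_mono hDb le_rfl hn))
    (Subgroup.mem_sup_right (Subgroup.mem_inf.2 ⟨hDb (Subgroup.mem_inf.1 hv).1, ?_⟩))
  obtain ⟨hvD, hvV⟩ := Subgroup.mem_inf.1 hv
  exact h.fixed_le_coreS hT hU hne hV ha (Subgroup.mem_inf.2 ⟨(Subgroup.mem_inf.1 hvD).1, hvV⟩)

end Sep

/-- The common value of `th T a ∩ th U a`. -/
def blockTheta (B : Finset (Subgroup G)) (a : G) : Subgroup G := ⨅ T ∈ B, th T a

namespace Sep

variable (h : Sep A B)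
include h

theorem exists_two : ∃ T ∈ B, ∃ U ∈ B, T ≠ U := Finset.one_lt_card.1 (by have := h.three; omega)

theorem exists_third (T U : Subgroup G) : ∃ V ∈ B, V ≠ T ∧ V ≠ U := by
  classical
  by_contra hno
  push Not at hno
  have := Finset.card_le_card (show B ⊆ ({T, U} : Finset (Subgroup G)) from fun V hV => by
    rw [Finset.mem_insert, Finset.mem_singleton]; exact or_iff_not_imp_left.2 (hno V hV))
  have h2 := Finset.card_le_two (a := T) (b := U)
  have := h.three
  omega

theorem theta_eq {T U : Subgroup G} (hT : T ∈ B) (hU : U ∈ B) (hne : T ≠ U) {a : G} (ha : a ∈ A) :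
    blockTheta B a = th T a ⊓ th U a :=
  le_antisymm (le_inf (iInf₂_le T hT) (iInf₂_le U hU))
    (le_iInf₂ fun _ hV => h.le_third hT hU hne hV ha)

theorem theta_le {a : G} (ha : a ∈ A) : blockTheta B a ≤ oc a := by
  obtain ⟨T, hT, -⟩ := h.exists_two
  exact (iInf₂_le T hT).trans (h.th_le hT ha)

/-- The functor of the blocks. -/
theorem functor : Cfsg.IsSolvableSignalizerFunctor 2 A (blockTheta B) := by
  obtain ⟨T, hT, U, hU, hne⟩ := h.exists_two
  refine ⟨⟨fun a ha _ => (h.theta_le ha).trans (oc_le a), fun a ha _ h2 => ?_, fun a ha _ b hb x hx => ?_,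
    fun a ha _ b hb hb1 => ?_⟩, fun a ha _ => StrongProd.solvable_of_odd (Nat.coprime_two_right.1
      (coprime_le (h.theta_le ha) (oc_coprime a)))⟩
  · exact absurd (Nat.eq_one_of_dvd_coprimes (coprime_le (h.theta_le ha) (oc_coprime a)).symm dvd_rfl h2) (by decide)
  · rw [h.theta_eq hT hU hne ha] at hx ⊢
    exact Subgroup.mem_inf.2 ⟨Solv.conj_mem_of_mem_normalizer (h.th_norm hT ha hb) (Subgroup.mem_inf.1 hx).1,
      Solv.conj_mem_of_mem_normalizer (h.th_norm hU ha hb) (Subgroup.mem_inf.1 hx).2⟩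
  · rw [h.theta_eq hT hU hne ha]
    exact le_iInf₂ fun V hV => h.balance hT hU hne hV ha hb hb1

theorem eight : 2 ^ 3 ≤ Nat.card A := by
  obtain ⟨T, hT, U, hU, hne⟩ := h.exists_two
  have hinj : Function.Injective fun p : T × U =>
      (⟨(p.1 : G) * p.2, A.mul_mem (h.le T hT p.1.2) (h.le U hU p.2.2)⟩ : A) := by
    rintro ⟨x, y⟩ ⟨x', y'⟩ e
    simp only [Subtype.mk.injEq] at e
    have h1 : (x' : G)⁻¹ * x = y' * (y : G)⁻¹ := by
      rw [eq_mul_inv_iff_mul_eq, mul_assoc, e, inv_mul_cancel_left]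
    have h2 : (x' : G)⁻¹ * x ∈ T ⊓ others B T := Subgroup.mem_inf.2
      ⟨T.mul_mem (T.inv_mem x'.2) x.2, h1 ▸ le_others hU hne.symm (U.mul_mem y'.2 (U.inv_mem y.2))⟩
    rw [h.indep T hT, Subgroup.mem_bot, inv_mul_eq_one] at h2
    rw [← h2] at e
    rw [Subtype.ext h2, Subtype.ext (mul_left_cancel e)]
  have := Nat.card_le_card_of_injective _ hinj
  rw [Nat.card_prod] at this
  have h4 := Nat.mul_le_mul (h.big T hT) (h.big U hU)
  omega

end Sep

/-- The completion of the functor. -/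
def blockW (A : Subgroup G) (B : Finset (Subgroup G)) : Subgroup G :=
  ⨆ a : {a : G // a ∈ A ∧ a ≠ 1}, blockTheta B a

theorem theta_le_W {a : G} (ha : a ∈ A) (ha1 : a ≠ 1) : blockTheta B a ≤ blockW A B :=
  le_iSup (fun b : {a : G // a ∈ A ∧ a ≠ 1} => blockTheta B b) ⟨a, ha, ha1⟩

namespace Sep

variable (h : Sep A B)
include h

theorem W_odd : Odd (Nat.card (blockW A B)) := by
  haveI : Fact (Nat.Prime 2) := ⟨Nat.prime_two⟩
  have hfam := (SSF.complete h.elementary h.eight h.functor).1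
  exact Nat.not_even_iff_odd.1 fun he => hfam.2.1 he.two_dvd

theorem W_norm : A ≤ Subgroup.normalizer (blockW A B : Set G) := fun b hb => by
  haveI : Fact (Nat.Prime 2) := ⟨Nat.prime_two⟩
  have hfam := (SSF.complete h.elementary h.eight h.functor).1
  refine Fusion.mem_normalizer_of_cj_le ?_
  rintro _ ⟨x, hx, rfl⟩
  exact hfam.2.2.1 b hb x hx

theorem W_inf {a : G} (ha : a ∈ A) (ha1 : a ≠ 1) :
    blockW A B ⊓ Subgroup.centralizer ({a} : Set G) = blockTheta B a := by
  haveI : Fact (Nat.Prime 2) := ⟨Nat.prime_two⟩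
  exact (SSF.complete h.elementary h.eight h.functor).2 a ha ha1

/-- `W` is generated by the factors at the elements of one block. -/
theorem W_le_block {T : Subgroup G} (hT : T ∈ B) {M : Subgroup G}
    (hM : ∀ c ∈ T, c ≠ 1 → blockTheta B c ≤ M) : blockW A B ≤ M := by
  have hTA := h.le T hT
  rw [← Solv.gen_eq T (blockW A B) ⟨⟨fun s t => Subtype.ext (h.commute (hTA s.2) (hTA t.2))⟩⟩
    (hTA.trans h.W_norm) (h.coprime hTA (Nat.coprime_two_right.2 h.W_odd))]
  refine iSup₂_le fun K hK => ?_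
  obtain ⟨c, hcK, hc1⟩ := h.exists_ne hT hK
  refine le_trans ?_ (hM c (hK.1 hcK) hc1)
  rw [← h.W_inf (hTA (hK.1 hcK)) hc1]
  exact inf_le_inf_left _ (Subgroup.centralizer_le (Set.singleton_subset_iff.2 hcK))

end Sep

end Cfsg.Agent.Walter
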