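import Cfsg.Agent.Lib.Walter.Core.BlockFunctor
import Cfsg.Agent.Lib.Fusion.TerminalPairIff
import Cfsg.Agent.Lib.Fusion.GFitQuotient

/-!
# Components over components modulo the core

A block centralising `O(C(c))` makes the component it moves modulo the core a component of `C(c)`.
-/

set_option autoImplicit false
set_option linter.style.haveILetI false
set_option linter.unusedSectionVars false

open Cfsg Cfsg.Agent Cfsg.Agent.Fusion
open scoped commutatorElement

namespace Cfsg.Agent.Walter

universe u

theorem not_solvable_of_qs {H : Type u} [Group H] {K : Subgroup H} (hK : Cfsg.IsQuasisimple K) :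
    ¬ Group.IsSolvable K := fun hs => by
  haveI := hK.1
  haveI := Solv.qs_nontrivial hK
  exact Group.IsPerfect.not_isSolvable (G := K) hs

/-- An element centralising a component modulo a solvable normal subgroup centralises it. -/
theorem commute_of_mod {H : Type u} [Group H] [Finite H] {K O : Subgroup H} [O.Normal]
    (hK : Cfsg.IsComponent K) (hO : Group.IsSolvable O) {t : H} (h : ∀ k ∈ K, ⁅k, t⁆ ∈ O) :
    ∀ k ∈ K, Commute k t := by
  have hKO : ⁅K, O⁆ = ⊥ := by
    rcases Solv.component_normal_dichotomy hK O with hle | hc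
    · exact absurd (Group.isSolvable_of_isSolvable_injective (f := Subgroup.inclusion hle) (Subgroup.inclusion_injective hle))
        (not_solvable_of_qs hK.2)
    · exact hc
  have hmem : ⁅K, Subgroup.zpowers t⁆ ≤ O := by
    refine Subgroup.commutator_le.2 fun k hk y hy => ?_
    obtain ⟨i, rfl⟩ := Subgroup.mem_zpowers_iff.1 hy
    rw [← QuotientGroup.eq_one_iff, ← QuotientGroup.mk'_apply, map_commutatorElement,
      commutatorElement_eq_one_iff_commute, map_zpow]
    refine Commute.zpow_right ?_ i
    rw [← commutatorElement_eq_one_iff_commute, ← map_commutatorElement, QuotientGroup.mk'_apply,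
      QuotientGroup.eq_one_iff]
    exact h k hk
  have h1 := Solv.commutator_eq_bot_of_perfect (Solv.qs_self_commutator hK.2)
    (le_bot_iff.1 ((Subgroup.commutator_mono hmem le_rfl).trans ((Subgroup.commutator_comm O K).trans hKO).le))
  exact fun k hk => commutatorElement_eq_one_iff_commute.1 (Subgroup.mem_bot.1
    (h1 ▸ Subgroup.commutator_mem_commutator hk (Subgroup.mem_zpowers t)))

variable {G : Type u} [Group G] [Finite G]

/-- A component of `H` is a component of every subgroup of `H` containing it. -/
theorem componentOf_restrict {K D H : Subgroup G} (hK : Cfsg.IsComponentOf K H) (hKD : K ≤ D) (hDH : D ≤ H) :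
    Cfsg.IsComponentOf K D := by
  refine ⟨hKD, ?_, ?_⟩
  · have e : K.subgroupOf D = (K.subgroupOf H).comap (Subgroup.inclusion hDH) := rfl
    rw [e]
    exact hK.2.1.comap _
  · exact Local.isQuasisimple_congr
      ((Subgroup.subgroupOfEquivOfLe hK.1).trans (Subgroup.subgroupOfEquivOfLe hKD).symm) hK.2.2

/-- Two components of one subgroup are equal or commute. -/
theorem componentOf_eq_or_commute {K L H : Subgroup G} (hK : Cfsg.IsComponentOf K H) (hL : Cfsg.IsComponentOf L H) :
    K = L ∨ K ≤ Subgroup.centralizer (L : Set G) := by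
  by_cases e : K.subgroupOf H = L.subgroupOf H
  · left
    rw [← Subgroup.map_subgroupOf_eq_of_le hK.1, e, Subgroup.map_subgroupOf_eq_of_le hL.1]
  · right
    have h := Subgroup.commutator_eq_bot_iff_le_centralizer.1 (Solv.components_commute hK.2 hL.2 e)
    intro k hk
    refine Subgroup.mem_centralizer_iff.2 fun l hl => ?_
    exact congrArg Subtype.val (Subgroup.mem_centralizer_iff.1
      (h (show (⟨k, hK.1 hk⟩ : ↥H) ∈ K.subgroupOf H from hk)) ⟨l, hL.1 hl⟩ hl)

/-- The image of a component of `C(c)` modulo the core is a component. -/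
theorem component_image {c : G} {K : Subgroup G} (hK : Cfsg.IsComponentOf K (Subgroup.centralizer ({c} : Set G))) :
    Cfsg.IsComponent ((K.subgroupOf (Subgroup.centralizer ({c} : Set G))).map
      (QuotientGroup.mk' (Cfsg.oddCore ↥(Subgroup.centralizer ({c} : Set G))))) := by
  set X := Subgroup.centralizer ({c} : Set G)
  refine ⟨hK.2.1.map (QuotientGroup.mk'_surjective _), ?_⟩
  have hsol : Group.IsSolvable ↥(Cfsg.oddCore ↥X) := StrongProd.solvable_of_odd (G := ↥X)
    (Nat.coprime_two_right.1 (card_pPrimeCore_coprime 2 ↥X))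
  refine qs_of_surjective _ (MonoidHom.subgroupMap_surjective _ _) hK.2.2
    (not_subsingleton_iff_nontrivial.1 fun hsub => ?_)
  refine not_solvable_of_qs hK.2.2 ?_
  have hle : K.subgroupOf X ≤ Cfsg.oddCore ↥X := fun k hk => (QuotientGroup.eq_one_iff k).1 (by
    have h1 : (QuotientGroup.mk' (Cfsg.oddCore ↥X)).subgroupMap (K.subgroupOf X) ⟨k, hk⟩ = 1 :=
      (Subsingleton.elim _ _)
    exact congrArg Subtype.val h1)
  haveI := hsol
  exact Group.isSolvable_of_isSolvable_injective (f := Subgroup.inclusion hle) (Subgroup.inclusion_injective hle)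

/-- `T` fixes the image of a component modulo the core only if it centralises it. -/
theorem le_centralizer_of_fixes {c : G} {T K : Subgroup G} (hTc : T ≤ Subgroup.centralizer ({c} : Set G))
    (hK : Cfsg.IsComponentOf K (Subgroup.centralizer ({c} : Set G)))
    (hfix : FixesMod c T ((K.subgroupOf (Subgroup.centralizer ({c} : Set G))).map
      (QuotientGroup.mk' (Cfsg.oddCore ↥(Subgroup.centralizer ({c} : Set G)))))) :
    T ≤ Subgroup.centralizer (K : Set G) := by
  set X := Subgroup.centralizer ({c} : Set G)
  intro t ht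
  refine Subgroup.mem_centralizer_iff.2 fun k hk => ?_
  haveI : Group.IsSolvable ↥(Cfsg.oddCore ↥X) := StrongProd.solvable_of_odd (G := ↥X)
    (Nat.coprime_two_right.1 (card_pPrimeCore_coprime 2 ↥X))
  exact congrArg Subtype.val (commute_of_mod (H := ↥X) (O := Cfsg.oddCore ↥X) hK.2 inferInstance
    (t := ⟨t, hTc ht⟩) (fun x hx => by
      rw [← QuotientGroup.eq_one_iff, ← QuotientGroup.mk'_apply, map_commutatorElement,
        commutatorElement_eq_one_iff_commute]
      exact (hfix ⟨t, hTc ht⟩ ht _ ⟨x, hx, rfl⟩).symm) ⟨k, hK.1 hk⟩ hk).eq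

/-- A component of the quotient by the odd core moved by elements centralising the core lifts to a component. -/
theorem exists_component {H : Type u} [Group H] [Finite H] {D : Subgroup H}
    (hD : D ≤ Subgroup.centralizer (Cfsg.oddCore H : Set H)) {J : Subgroup (H ⧸ Cfsg.oddCore H)}
    (hJ : Cfsg.IsComponent J) (hmoved : ¬ D.map (QuotientGroup.mk' (Cfsg.oddCore H)) ≤ Subgroup.centralizer (J : Set (H ⧸ Cfsg.oddCore H))) :
    ∃ E : Subgroup H, Cfsg.IsComponent E ∧ E.map (QuotientGroup.mk' _) = J := by
  haveI : Fact (Nat.Prime 2) := ⟨Nat.prime_two⟩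
  haveI : ((Subgroup.centralizer (Cfsg.oddCore H : Set H)).map (QuotientGroup.mk' (Cfsg.oddCore H))).Normal :=
    Subgroup.Normal.map inferInstance _ (QuotientGroup.mk'_surjective _)
  have hle : J ≤ (Subgroup.centralizer (Cfsg.oddCore H : Set H)).map (QuotientGroup.mk' (Cfsg.oddCore H)) := by
    rcases Solv.component_normal_dichotomy hJ
      ((Subgroup.centralizer (Cfsg.oddCore H : Set H)).map (QuotientGroup.mk' (Cfsg.oddCore H))) with h | h
    · exact h
    · exact absurd ((Subgroup.map_mono hD).trans (Subgroup.le_centralizer_iff.1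
        (Subgroup.commutator_eq_bot_iff_le_centralizer.1 h))) hmoved
  obtain ⟨E, hE, hEJ⟩ := exists_pComponent_map hJ
  have hECn : E ≤ Subgroup.centralizer (Cfsg.oddCore H : Set H) :=
    pComponent_le_of_map_le hE (Subgroup.Normal.isSubnormal inferInstance) (hEJ.le.trans hle)
  exact ⟨E, TerminalPair.component_of_pComponent hE (Subgroup.commutator_eq_bot_iff_le_centralizer.2 hECn), hEJ⟩

/-- A block centralising the core moves only components that lift. -/
theorem exists_lift {c : G} {T : Subgroup G}
    (hTO : T ≤ Subgroup.centralizer (oc c : Set G))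
    {J} (hJ : Cfsg.IsComponent J) (hmoved : ¬ FixesMod c T J) :
    ∃ K : Subgroup G, Cfsg.IsComponentOf K (Subgroup.centralizer ({c} : Set G)) ∧
      ¬ T ≤ Subgroup.centralizer (K : Set G) := by
  obtain ⟨E, hE, hEJ⟩ := exists_component (D := T.subgroupOf (Subgroup.centralizer ({c} : Set G)))
    (fun t ht => Subgroup.mem_centralizer_iff.2 fun o ho =>
      Subtype.ext (Subgroup.mem_centralizer_iff.1 (hTO ht) _ ⟨o, ho, rfl⟩)) hJ
    (fun hle => hmoved fun t ht j hj => (Subgroup.mem_centralizer_iff.1 (hle ⟨t, ht, rfl⟩) j hj).symm)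
  refine ⟨E.map (Subgroup.centralizer ({c} : Set G)).subtype, ⟨Subgroup.map_subtype_le _, ?_⟩,
    fun hcen => hmoved fun t ht j hj => ?_⟩
  · rwa [← Subgroup.comap_subtype, Subgroup.comap_map_eq_self_of_injective (Subgroup.subtype_injective _)]
  · rw [← hEJ] at hj
    obtain ⟨e, he, rfl⟩ := hj
    exact (show Commute t e from Subtype.ext (Subgroup.mem_centralizer_iff.1 (hcen ht) (e : G) ⟨e, he, rfl⟩).symm).map
      (QuotientGroup.mk' _)

end Cfsg.Agent.Walter
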