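import Cfsg.Agent.Lib.Walter.Core.Defs
import Cfsg.Agent.Lib.Bender.SolConsequences

/-!
# A subgroup over the centralisers of all involutions of `A` is solvable

With abelian Sylow `2`-subgroups such a subgroup is strongly embedded, hence solvable.
-/

set_option autoImplicit false
set_option linter.style.haveILetI false

open Cfsg Cfsg.Agent

namespace Cfsg.Agent.Walter

universe u

variable {G : Type u} [Group G] [Finite G]

/-- `S` abelian, `A` contains the involutions of `S`: a proper subgroup over `N(A)` and all `C(c)`, `c ∈ A`, is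
solvable. -/
theorem solvable_of_over (hsol : ∀ (X : Type u) [Group X] [Finite X], SEB.Sol X) (hab : Solv.AbelianTwo.Ab2 G)
    {S : Sylow 2 G} {A : Subgroup G} (hAS : A ≤ S) (hA : ∀ x ∈ (S : Subgroup G), x ^ 2 = 1 → x ∈ A)
    (hsq : ∀ x ∈ A, x ^ 2 = 1) (h4 : 4 ≤ Nat.card A) {M : Subgroup G} (hM : M ≠ ⊤)
    (hC : ∀ c ∈ A, c ≠ 1 → Subgroup.centralizer ({c} : Set G) ≤ M)
    (hN : Subgroup.normalizer (A : Set G) ≤ M) : Group.IsSolvable M := by
  haveI : Fact (Nat.Prime 2) := ⟨Nat.prime_two⟩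
  haveI := hab S
  have hSN : (S : Subgroup G) ≤ Subgroup.normalizer (A : Set G) := fun s hs =>
    Subgroup.centralizer_le_normalizer _ (Subgroup.mem_centralizer_iff.2 fun a ha =>
      congrArg Subtype.val (IsMulCommutative.is_comm.comm (⟨a, hAS ha⟩ : (S : Subgroup G)) ⟨s, hs⟩))
  have hSM : (S : Subgroup G) ≤ M := hSN.trans hN
  have hNS : Subgroup.normalizer ((S : Subgroup G) : Set G) ≤ M := by
    refine le_trans (fun g hg => Fusion.mem_normalizer_of_cj_le ?_) hN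
    rintro _ ⟨a, ha, rfl⟩
    refine hA _ (Solv.conj_mem_of_mem_normalizer hg (hAS ha)) ?_
    show (g * a * g⁻¹) ^ 2 = 1
    rw [conj_pow, hsq a ha, mul_one, mul_inv_cancel]
  obtain ⟨T, hT⟩ : ∃ T : Sylow 2 M, (T : Subgroup M) = (S : Subgroup G).subgroupOf M :=
    ⟨S.subtype hSM, rfl⟩
  -- every involution of `M` is conjugate in `M` into `A`
  have key : ∀ x ∈ M, orderOf x = 2 → ∃ e ∈ M, e * x * e⁻¹ ∈ A := by
    intro x hx hxo
    have hxp : IsPGroup 2 (Subgroup.zpowers (⟨x, hx⟩ : M)) :=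
      IsPGroup.of_card (n := 1) (by rw [Nat.card_zpowers, Subgroup.orderOf_mk, pow_one]; exact hxo)
    obtain ⟨R, hR⟩ := hxp.exists_le_sylow
    obtain ⟨e, he⟩ := MulAction.exists_smul_eq M R T
    have h1 : MulAut.conj e • (⟨x, hx⟩ : M) ∈ (T : Subgroup M) := by
      rw [← he, Sylow.coe_subgroup_smul]
      exact Subgroup.smul_mem_pointwise_smul _ _ _ (hR (Subgroup.mem_zpowers _))
    rw [hT, Subgroup.mem_subgroupOf] at h1
    refine ⟨e, e.2, hA _ h1 ?_⟩
    show ((e : G) * x * (e : G)⁻¹) ^ 2 = 1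
    rw [conj_pow, ← hxo, pow_orderOf_eq_one, mul_one, mul_inv_cancel]
  have hAne : ∃ a ∈ A, a ≠ 1 := by
    by_contra hno
    push Not at hno
    rw [(Subgroup.eq_bot_iff_forall A).2 hno, Subgroup.card_bot] at h4
    omega
  have hse : Cfsg.IsStronglyEmbedded M := by
    refine ⟨hM, ?_, fun g hg => ?_⟩
    · obtain ⟨a, ha, ha1⟩ := hAne
      rw [even_iff_two_dvd, ← orderOf_eq_prime (hsq a ha) ha1]
      exact Subgroup.orderOf_dvd_natCard M (hSM (hAS ha))
    by_contra hev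
    rw [Nat.not_odd_iff_even, even_iff_two_dvd] at hev
    obtain ⟨⟨x, hx⟩, hxo⟩ := exists_prime_orderOf_dvd_card' 2 hev
    rw [Subgroup.orderOf_mk] at hxo
    obtain ⟨hxM, y, hy, hyx⟩ := Subgroup.mem_inf.1 hx
    have hyx : g * y * g⁻¹ = x := hyx
    have hyo : orderOf y = 2 := by
      rw [← hxo, ← hyx, ← MulAut.conj_apply, MulEquiv.orderOf_eq]
    obtain ⟨e, he, hea⟩ := key x hxM hxo
    obtain ⟨e', he', hea'⟩ := key y hy hyo
    obtain ⟨h, hh⟩ : ∃ h, h = e * g * e'⁻¹ := ⟨_, rfl⟩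
    have hconj : h * (e' * y * e'⁻¹) * h⁻¹ = e * x * e⁻¹ := by rw [hh, ← hyx]; group
    obtain ⟨n, hn, hne⟩ := S.conj_eq_normalizer_conj_of_mem (e' * y * e'⁻¹) h⁻¹ (hAS hea')
      (by rw [inv_inv, hconj]; exact hAS hea)
    rw [inv_inv, hconj] at hne
    have ha1 : e' * y * e'⁻¹ ≠ 1 := fun h1 => by
      rw [conj_eq_one_iff] at h1
      rw [h1, orderOf_one] at hyo
      exact absurd hyo (by norm_num)
    have hmem : n * h ∈ M := by
      refine hC _ hea' ha1 (Subgroup.mem_centralizer_singleton_iff.2 ?_)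
      calc n * h * (e' * y * e'⁻¹) = n * (h * (e' * y * e'⁻¹) * h⁻¹) * h := by group
        _ = e' * y * e'⁻¹ * (n * h) := by rw [hconj, hne]; group
    refine hg ?_
    have h2 : g = e⁻¹ * (n⁻¹ * (n * h)) * e' := by rw [hh]; group
    rw [h2]
    exact M.mul_mem (M.mul_mem (M.inv_mem he) (M.mul_mem (M.inv_mem (hNS hn)) hmem)) he'
  refine hsol G M hse (Bender.mbar_ne_one hse ⟨A, ?_, hsq, by rw [pow_two]; omega⟩)
  exact ⟨⟨fun a b => Subtype.ext (Solv.AbelianTwo.commute_of_mem hab S.isPGroup' (hAS a.2) (hAS b.2)).eq⟩⟩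

end Cfsg.Agent.Walter
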