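import Cfsg.Agent.Lib.Walter.Core.BlockCore
import Cfsg.Agent.Lib.Walter.Core.BlockLift
import Cfsg.Agent.Lib.Walter.Core.Embedded

/-!
# The block case does not occur

If the completion `W` of the functor is not trivial, its normaliser contains all centralisers and is therefore
solvable, which it is not; so `W = 1`, the blocks centralise the cores they avoid, and the product of the lifted
components has such a normaliser.
-/

set_option autoImplicit false
set_option linter.style.haveILetI false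
set_option linter.unusedSectionVars false

open Cfsg Cfsg.Agent Cfsg.Agent.Fusion
open scoped commutatorElement Pointwise

namespace Cfsg.Agent.Walter

open Cfsg.Agent.Solv.CoreSep (coreS coreS_le coreS_norm coreS_odd th)

universe u

variable {G : Type u} [Group G] [Finite G] {A : Subgroup G} {B : Finset (Subgroup G)}

/-- The generalized Fitting subgroups modulo cores have odd index. -/
def OddIndex (G : Type u) [Group G] : Prop :=
  ∀ c : G, c ≠ 1 → Odd (Cfsg.generalizedFittingSubgroup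
    (↥(Subgroup.centralizer ({c} : Set G)) ⧸ Cfsg.oddCore ↥(Subgroup.centralizer ({c} : Set G)))).index

/-- A subgroup over the pairs, `N(A)` and `θ(c)` contains `C(c)`. -/
theorem Blocks.centralizer_le (h : Blocks A B) (hidx : OddIndex G) (hab : Solv.AbelianTwo.Ab2 G) {M : Subgroup G}
    (hpair : ∀ T ∈ B, ∀ U ∈ B, T ≠ U → Subgroup.centralizer ((T ⊔ U : Subgroup G) : Set G) ≤ M)
    (hN : Subgroup.normalizer (A : Set G) ≤ M) {c : G} (hc : c ∈ A) (hc1 : c ≠ 1) (hθ : blockTheta B c ≤ M) :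
    Subgroup.centralizer ({c} : Set G) ≤ M := by
  haveI : Fact (Nat.Prime 2) := ⟨Nat.prime_two⟩
  obtain ⟨S, hAS, hA⟩ := h.sylow
  have hoc : oc c ≤ M := h.sep.oc_le_of hpair hc hθ
  have hSN : ∀ g ∈ Subgroup.normalizer ((S : Subgroup G) : Set G), g ∈ M := fun g hg => hN
    (mem_normalizer_of_cj_le (by
      rintro _ ⟨a, ha, rfl⟩
      refine hA _ (Solv.conj_mem_of_mem_normalizer hg (hAS ha)) ?_
      show (g * a * g⁻¹) ^ 2 = 1
      rw [conj_pow, h.sq a ha, mul_one, mul_inv_cancel]))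
  have hSM : (S : Subgroup G) ≤ M := Subgroup.le_normalizer.trans hSN
  set X := Subgroup.centralizer ({c} : Set G) with hX
  have hSX : (S : Subgroup G) ≤ X := fun s hs => Subgroup.mem_centralizer_singleton_iff.2
    (Solv.AbelianTwo.commute_of_mem hab S.isPGroup' hs (hAS hc)).eq
  set O := Cfsg.oddCore ↥X with hO
  set π := QuotientGroup.mk' O with hπ
  set F := Cfsg.generalizedFittingSubgroup (↥X ⧸ O) with hF
  haveI : F.Normal := Local.gfit_normal
  let P : Sylow 2 ↥X := S.subtype hSX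
  have hP : (P : Subgroup ↥X) = (S : Subgroup G).subgroupOf X := rfl
  obtain ⟨M', hM'⟩ : ∃ M', M' = M.subgroupOf X := ⟨_, rfl⟩
  have hOM : O ≤ M' := fun o ho => hM' ▸ hoc ⟨o, ho, rfl⟩
  have hker : π.ker ≤ M' := (QuotientGroup.ker_mk' O).le.trans hOM
  -- the layer
  have hlay : Cfsg.layer (↥X ⧸ O) ≤ M'.map π := by
    refine sSup_le fun J hJ j hj => ?_
    obtain ⟨V, hV, -, hfix⟩ := h.fixed c hc hc1 J hJ
    obtain ⟨T, hT, hTV, -⟩ := h.sep.exists_third V V
    obtain ⟨U, hU, hUV, hUT⟩ := h.sep.exists_third V T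
    have hTU : T ⊔ U ≤ A := sup_le (h.sep.le T hT) (h.sep.le U hU)
    have hXA : A ≤ X := h.sep.le_centralizer hc
    set Z : Subgroup ↥X := (Subgroup.centralizer ({j} : Set (↥X ⧸ O))).comap π
    have hmem : (T ⊔ U).subgroupOf X ≤ Z := by
      rw [← Subgroup.map_le_map_iff_of_injective X.subtype_injective,
        Subgroup.map_subgroupOf_eq_of_le (hTU.trans hXA)]
      exact sup_le (fun t ht => ⟨⟨t, hXA (h.sep.le T hT ht)⟩, Subgroup.mem_centralizer_singleton_iff.2
          (hfix T hT hTV ⟨t, hXA (h.sep.le T hT ht)⟩ ht j hj).eq, rfl⟩)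
        (fun t ht => ⟨⟨t, hXA (h.sep.le U hU ht)⟩, Subgroup.mem_centralizer_singleton_iff.2
          (hfix U hU hUV ⟨t, hXA (h.sep.le U hU ht)⟩ ht j hj).eq, rfl⟩)
    obtain ⟨n, hn, hne⟩ := Solv.CoreSep.lift_centralizer (T := (T ⊔ U).subgroupOf X)
      ((h.sep.pgroup hTU).comap_subtype (K := X)) (v := j) fun t ht =>
        (Subgroup.mem_centralizer_singleton_iff.1 (hmem ht))
    refine ⟨n, hM' ▸ hpair T hT U hU hUT.symm (Subgroup.mem_centralizer_iff.2 fun y hy => ?_), hne⟩
    exact congrArg Subtype.val (Subgroup.mem_centralizer_iff.1 hn ⟨y, hXA (hTU hy)⟩ hy)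
  -- the Fitting subgroup
  have hPM : (P : Subgroup ↥X) ≤ M' := fun s hs => hM' ▸ hSM hs
  have hfit : Cfsg.fittingSubgroup (↥X ⧸ O) ≤ M'.map π := by
    rw [Solv.fitting_eq_iSup_pCore]
    refine iSup_le fun q => ?_
    haveI := Fact.mk q.2
    by_cases h2 : (q : ℕ) = 2
    · rw [h2]
      refine le_trans ?_ (Subgroup.map_mono hPM)
      obtain ⟨R, hR⟩ : ∃ R : Sylow 2 (↥X ⧸ O), (R : Subgroup (↥X ⧸ O)) = (P : Subgroup ↥X).map π :=
        ⟨P.mapSurjective (QuotientGroup.mk'_surjective O), rfl⟩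
      rw [← hR]
      exact pCore_le_sylow R
    · refine le_trans (le_trans ?_ (pPrimeCore_quotient_eq_bot (p := 2) (G := ↥X)).le) bot_le
      haveI := Solv.pCore_normal (G := ↥X ⧸ O) (q : ℕ)
      refine le_pPrimeCore ?_
      obtain ⟨k, hk⟩ := IsPGroup.iff_card.1 (Solv.pCore_isPGroup (G := ↥X ⧸ O) (q : ℕ))
      rw [hk]
      exact ((Nat.coprime_primes q.2 Nat.prime_two).2 h2).pow_left k
  have hFM : F.comap π ≤ M' := by
    intro x hx
    have h1 : π x ∈ M'.map π := sup_le hlay hfit hx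
    rw [← Subgroup.mem_comap, Subgroup.comap_map_eq, sup_eq_left.2 hker] at h1
    exact h1
  have hPF : (P : Subgroup ↥X) ≤ F.comap π := by
    intro s hs
    obtain ⟨k, hk⟩ := P.isPGroup' ⟨s, hs⟩
    have h1 : orderOf (QuotientGroup.mk' F (π s)) = 1 := Nat.eq_one_of_dvd_coprimes
      (((hidx c hc1).coprime_two_left).pow_left k) (orderOf_dvd_of_pow_eq_one (by
        rw [← map_pow, ← map_pow, show s ^ 2 ^ k = 1 from congrArg Subtype.val hk, map_one, map_one]))
      (Subgroup.index_eq_card F ▸ orderOf_dvd_natCard _)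
    exact (QuotientGroup.eq_one_iff (π s)).1 (orderOf_eq_one_iff.1 h1)
  haveI : (F.comap π).Normal := inferInstance
  -- Frattini
  have htop := Sylow.normalizer_sup_eq_top (P.subtype hPF)
  have hnorm : Subgroup.normalizer ((P : Subgroup ↥X) : Set ↥X) ≤ M' := by
    intro g hg
    rw [hM', Subgroup.mem_subgroupOf]
    refine hSN _ (mem_normalizer_of_cj_le ?_)
    rintro _ ⟨s, hs, rfl⟩
    exact (Subgroup.mem_normalizer_iff.1 hg ⟨s, hSX hs⟩).1 hs
  have htop' : M' = ⊤ := by
    refine top_le_iff.1 (htop.symm.le.trans (sup_le ?_ hFM))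
    have e : ((P.subtype hPF : Sylow 2 _) : Subgroup ↥(F.comap π)).map (F.comap π).subtype = (P : Subgroup ↥X) :=
      Subgroup.map_subgroupOf_eq_of_le hPF
    rw [e]
    exact hnorm
  exact Subgroup.subgroupOf_eq_top.1 (hM' ▸ htop')

theorem odd_solvable_group {H : Type u} [Group H] [Finite H] (h : Odd (Nat.card H)) : Group.IsSolvable H :=
  Cfsg.Agent.OddFT.odd_solvable_of_no_min (fun _ _ _ h => Cfsg.Agent.OddFT.no_minSimple _ h) h

/-- A homomorphism into a solvable group kills a perfect subgroup. -/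
theorem eq_one_of_perfect_le {H K : Type u} [Group H] [Group K] {f : H →* K} (P : Subgroup H) [Group.IsPerfect P]
    (Q : Subgroup K) [Group.IsSolvable Q] (hle : P.map f ≤ Q) {x : H} (hx : x ∈ P) : f x = 1 := by
  haveI : Group.IsPerfect (P.map f) := Group.IsPerfect.ofSurjective (MonoidHom.subgroupMap_surjective f P)
  haveI : Group.IsSolvable (P.map f) :=
    Group.isSolvable_of_isSolvable_injective (f := Subgroup.inclusion hle) (Subgroup.inclusion_injective hle)
  by_contra hne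
  haveI : Nontrivial (P.map f) := ⟨⟨f x, x, hx, rfl⟩, 1, fun h => hne (congrArg Subtype.val h)⟩
  exact (Group.IsSolvable.commutator_lt_top_of_nontrivial (P.map f)).ne Group.IsPerfect.commutator_eq_top

theorem eq_one_of_perfect {H K : Type u} [Group H] [Group K] [Group.IsSolvable K] {f : H →* K} (P : Subgroup H)
    [Group.IsPerfect P] {x : H} (hx : x ∈ P) : f x = 1 :=
  eq_one_of_perfect_le P ⊤ le_top hx

/-- A proper subgroup over all the centralisers and `N(A)` is impossible. -/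
theorem Blocks.no_over (h : Blocks A B) (hsol : ∀ (X : Type u) [Group X] [Finite X], SEB.Sol X)
    (hab : Solv.AbelianTwo.Ab2 G) {M : Subgroup G} (hM : M ≠ ⊤)
    (hC : ∀ c ∈ A, c ≠ 1 → Subgroup.centralizer ({c} : Set G) ≤ M)
    (hN : Subgroup.normalizer (A : Set G) ≤ M) : False := by
  obtain ⟨S, hAS, hA⟩ := h.sylow
  obtain ⟨T, hT, U, hU, hne⟩ := h.sep.exists_two
  have h4 : 4 ≤ Nat.card A := (h.big T hT).trans (Subgroup.card_le_of_le (h.sep.le T hT))
  haveI := solvable_of_over hsol hab hAS hA h.sq h4 hM hC hN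
  obtain ⟨c, hc, hc1⟩ := h.sep.exists_ne_one hU
  obtain ⟨J, ⟨hJ, -⟩, -⟩ := h.comp T hT c (le_others hU hne.symm hc) hc1
  haveI : Group.IsSolvable ↥(Subgroup.centralizer ({c} : Set G)) :=
    Group.isSolvable_of_isSolvable_injective (f := Subgroup.inclusion (hC c (h.sep.le U hU hc) hc1))
      (Subgroup.inclusion_injective _)
  haveI : Group.IsSolvable (↥(Subgroup.centralizer ({c} : Set G)) ⧸
      Cfsg.oddCore ↥(Subgroup.centralizer ({c} : Set G))) :=
    Group.isSolvable_of_surjective (QuotientGroup.mk'_surjective _)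
  exact not_solvable_of_qs hJ.2 (Group.isSolvable_of_isSolvable_injective (f := J.subtype) J.subtype_injective)

theorem Sep.one_lt (h : Sep A B) : ∃ a ∈ A, a ≠ 1 := by
  obtain ⟨T, hT, -⟩ := h.exists_two
  obtain ⟨c, hc, hc1⟩ := h.exists_ne_one hT
  exact ⟨c, h.le T hT hc, hc1⟩

/-- The completion is trivial. -/
theorem Blocks.W_eq_bot (h : Blocks A B) (hG : MinHyp G) (hidx : OddIndex G)
    (hsol : ∀ (X : Type u) [Group X] [Finite X], SEB.Sol X) : blockW A B = ⊥ := by
  by_contra hne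
  haveI := hG.simple
  refine h.no_over hsol hG.ab (M := Subgroup.normalizer (blockW A B : Set G)) (fun htop => ?_) ?_
    (h.sep.normalizer_le_norm fun g hg T hT => h.perm g hg T hT)
  · rcases IsSimpleGroup.eq_bot_or_eq_top_of_normal _ (Subgroup.normalizer_eq_top_iff.1 htop) with e | e
    · exact hne e
    · obtain ⟨a, ha, ha1⟩ := h.sep.one_lt
      have hodd := h.sep.W_odd
      rw [e, Subgroup.card_top] at hodd
      refine ha1 (orderOf_eq_one_iff.1 (Nat.eq_one_of_dvd_coprimes hodd.coprime_two_left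
        (orderOf_dvd_of_pow_eq_one (h.sq a ha)) (orderOf_dvd_natCard a)))
  · intro c hc hc1
    exact h.centralizer_le hidx hG.ab (fun T hT U hU hne => h.sep.centralizer_pair_le_norm hT hU hne)
      (h.sep.normalizer_le_norm fun g hg T hT => h.perm g hg T hT) hc hc1
      ((theta_le_W hc hc1).trans Subgroup.le_normalizer)

/-- With `W = 1` a block centralises the cores it avoids. -/
theorem Sep.comm_eq_bot (h : Sep A B) (hW : blockW A B = ⊥) {T : Subgroup G} (hT : T ∈ B) {c : G}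
    (hc : c ∈ others B T) (hc1 : c ≠ 1) : ⁅oc c, T⁆ = ⊥ := by
  have hcA : c ∈ A := h.others_le T hc
  have hθ : blockTheta B c = ⊥ := le_bot_iff.1 ((theta_le_W hcA hc1).trans hW.le)
  obtain ⟨U, hU, hUT, -⟩ := h.exists_third T T
  have hTA := h.le T hT
  have hA := h.norm_oc hcA
  obtain ⟨hYO, -, -⟩ := Solv.commutator_normal_in (hTA.trans hA)
  obtain ⟨Y, hY⟩ : ∃ Y, Y = ⁅oc c, T⁆ := ⟨_, rfl⟩
  rw [← hY] at hYO ⊢
  have hYA : A ≤ Subgroup.normalizer (Y : Set G) := hY ▸ h.norm_comm hT hA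
  have hYT : ⁅Y, T⁆ = Y := hY ▸ Solv.commutator_commutator_eq (hTA.trans hA) (h.coprime hTA (oc_coprime c))
    (Or.inl (h.solvable hTA))
  have hYU : Y ≤ Subgroup.centralizer (U : Set G) := by
    refine h.decompose hU hYO hYA (le_trans ?_ bot_le) inf_le_right
    exact hY ▸ (h.comm_comm_le hT hU hUT.symm hcA le_rfl hA).trans hθ.le
  obtain ⟨d, hd, hd1⟩ := h.exists_ne_one hU
  have hdA := h.le U hU hd
  set Cd := Subgroup.centralizer ({d} : Set G) with hCd
  have hYd : Y ≤ Cd := hYU.trans (Subgroup.centralizer_le (Set.singleton_subset_iff.2 hd))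
  have hcC : c ∈ Cd := h.le_centralizer hdA hcA
  set W := (oc c).subgroupOf Cd with hW'
  have h1 : W ≤ Subgroup.centralizer {(⟨c, hcC⟩ : ↥Cd)} := fun w hw =>
    Subgroup.mem_centralizer_singleton_iff.2 (Subtype.ext
      (Subgroup.mem_centralizer_singleton_iff.1 (oc_le c hw)))
  have h2 : Subgroup.centralizer {(⟨c, hcC⟩ : ↥Cd)} ≤ Subgroup.normalizer (W : Set ↥Cd) := fun w hw =>
    Subgroup.mem_normalizer_iff.2 fun y => Subgroup.mem_normalizer_iff.1 (oc_norm c
      (Subgroup.mem_centralizer_singleton_iff.2 (congrArg Subtype.val (Subgroup.mem_centralizer_singleton_iff.1 hw)))) y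
  have h3 : (Nat.card W).Coprime 2 := by
    refine (oc_coprime c).coprime_dvd_left ?_
    rw [← Solv.card_map_subtype, Subgroup.subgroupOf_map_subtype]
    exact Subgroup.card_dvd_of_le inf_le_left
  have hYd' : Y ≤ oc d := fun y hy => by
    refine ⟨⟨y, hYd hy⟩, Solv.CoreSep.mem_core (Subtype.ext (h.sq c hcA)) h1 h2 h3
      (show (⟨y, hYd hy⟩ : ↥Cd) ∈ W from hYO hy) fun J hJ => ?_, rfl⟩
    rcases h.fixed_split hT hdA hd1 hJ with hf | hf
    · refine Solv.CoreSep.comm_cent (T := T.subgroupOf Cd) (Solv.CoreSep.normalizes (Subtype.ext (h.sq c hcA)) h1 h2 h3 hJ)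
        (fun t ht j hj => (hf t ht j hj).eq) ⟨_, ?_, rfl⟩
      have hle : ⁅Y.subgroupOf Cd, T.subgroupOf Cd⁆ ≤ ⁅W, T.subgroupOf Cd⁆ :=
        Subgroup.commutator_mono (fun x hx => hYO hx) le_rfl
      refine hle ?_
      have e : (⁅Y.subgroupOf Cd, T.subgroupOf Cd⁆).map Cd.subtype = Y := by
        rw [Subgroup.map_commutator, Subgroup.map_subgroupOf_eq_of_le hYd,
          Subgroup.map_subgroupOf_eq_of_le (hTA.trans (h.le_centralizer hdA)), hYT]
      obtain ⟨w, hw, ew⟩ := e.ge hy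
      rwa [show (⟨y, hYd hy⟩ : ↥Cd) = w from Subtype.ext ew.symm]
    · refine Solv.CoreSep.fixed_component_cent (T := Subgroup.zpowers (⟨c, hcC⟩ : ↥Cd))
        (Solv.CoreSep.zpowers_two (Subtype.ext (h.sq c hcA))) (by rw [Solv.CoreSep.cent_zpowers]; exact h1)
        (by rw [Solv.CoreSep.cent_zpowers]; exact h2) h3 hJ (fun t ht j hj => ?_) ⟨_, hYO hy, rfl⟩
      obtain ⟨i, rfl⟩ := Subgroup.mem_zpowers_iff.1 ht
      rw [map_zpow]
      exact ((hf ⟨c, hcC⟩ hc j hj).zpow_left i).eq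
  have hYθ : Y ≤ blockTheta B c := by
    rw [h.theta_eq hT hU hUT.symm hcA]
    refine le_inf (hY.le.trans le_sup_left) ((le_inf hYO ?_).trans le_sup_right)
    exact (le_inf hYd' hYU).trans (oc_inf_le_coreS hd)
  exact le_bot_iff.1 (hYθ.trans hθ.le)

/-- A component of a `C(c)` moved by a block avoided by `c`. -/
def IsBlockComp (B : Finset (Subgroup G)) (T K : Subgroup G) : Prop :=
  T ∈ B ∧ ∃ c ∈ others B T, c ≠ 1 ∧ Cfsg.IsComponentOf K (Subgroup.centralizer ({c} : Set G)) ∧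
    ¬ T ≤ Subgroup.centralizer (K : Set G)

section Trivial

variable (h : Blocks A B) (hW : blockW A B = ⊥)
include h hW

theorem exists_comp {T : Subgroup G} (hT : T ∈ B) {c : G} (hc : c ∈ others B T) (hc1 : c ≠ 1) :
    ∃ K, Cfsg.IsComponentOf K (Subgroup.centralizer ({c} : Set G)) ∧ ¬ T ≤ Subgroup.centralizer (K : Set G) := by
  obtain ⟨J, ⟨hJ, hmoved⟩, -⟩ := h.comp T hT c hc hc1
  exact exists_lift (Subgroup.le_centralizer_iff.1
    (Subgroup.commutator_eq_bot_iff_le_centralizer.1 (h.sep.comm_eq_bot hW hT hc hc1))) hJ hmoved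

/-- The other blocks centralise a block component. -/
theorem others_centralize {T K : Subgroup G} (hK : IsBlockComp B T K) :
    others B T ≤ Subgroup.centralizer (K : Set G) := by
  obtain ⟨hT, c, hc, hc1, hKc, hne⟩ := hK
  have hcA := h.sep.others_le T hc
  obtain ⟨V, hV, -, hfix⟩ := h.fixed c hcA hc1 _ (component_image hKc)
  have e : T = V := by
    by_contra hTV
    exact hne (le_centralizer_of_fixes ((h.sep.le T hT).trans (h.sep.le_centralizer hcA)) hKc (hfix T hT hTV))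
  subst e
  exact iSup₂_le fun U hU => iSup_le fun hUT =>
    le_centralizer_of_fixes ((h.sep.le U hU).trans (h.sep.le_centralizer hcA)) hKc (hfix U hU hUT)

/-- A block component is a component of `C(d)` for every `d` avoiding its block. -/
theorem comp_transfer (hidx : OddIndex G) {T K : Subgroup G} (hK : IsBlockComp B T K) {d : G}
    (hd : d ∈ others B T) (hd1 : d ≠ 1) : Cfsg.IsComponentOf K (Subgroup.centralizer ({d} : Set G)) := by
  have hKle := others_centralize h hW hK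
  obtain ⟨hT, c, hc, hc1, hKc, hne⟩ := hK
  obtain ⟨K', hK'd, hne'⟩ := exists_comp h hW hT hd hd1
  have hK'le := others_centralize h hW ⟨hT, d, hd, hd1, hK'd, hne'⟩
  have hcent : ∀ {L : Subgroup G}, others B T ≤ Subgroup.centralizer (L : Set G) → ∀ x ∈ others B T,
      L ≤ Subgroup.centralizer ({x} : Set G) := fun hL x hx l hl =>
    Subgroup.mem_centralizer_singleton_iff.2 (Subgroup.mem_centralizer_iff.1 (hL hx) l hl)
  set H := Subgroup.centralizer ({c} : Set G) ⊓ Subgroup.centralizer ({d} : Set G)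
  rcases componentOf_eq_or_commute
      (componentOf_restrict hKc (le_inf hKc.1 (hcent hKle d hd)) (inf_le_left : H ≤ _))
      (componentOf_restrict hK'd (le_inf (hcent hK'le c hc) hK'd.1) (inf_le_right : H ≤ _)) with e | hcomm
  · exact e ▸ hK'd
  exfalso
  set X := Subgroup.centralizer ({c} : Set G) with hX
  set π := QuotientGroup.mk' (Cfsg.oddCore ↥X) with hπ
  have hK'X : K' ≤ X := hcent hK'le c hc
  have hcA := h.sep.others_le T hc
  have hTX : T ≤ X := (h.sep.le T hT).trans (h.sep.le_centralizer hcA)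
  obtain ⟨J, hJdef⟩ : ∃ J, J = (K.subgroupOf X).map π := ⟨_, rfl⟩
  have hJ : Cfsg.IsComponent J := hJdef ▸ component_image hKc
  have hJne : ¬ FixesMod c T J := fun hf => hne (le_centralizer_of_fixes hTX hKc (hJdef ▸ hf))
  -- the other components are fixed by `T`
  obtain ⟨Z, hZ⟩ : ∃ Z, Z = Subgroup.centralizer (((T.subgroupOf X).map π : Subgroup (↥X ⧸ Cfsg.oddCore ↥X)) :
    Set (↥X ⧸ Cfsg.oddCore ↥X)) := ⟨_, rfl⟩
  have hother : ∀ J', Cfsg.IsComponent J' → J' ≠ J → J' ≤ Z ⊓ Subgroup.centralizer (J : Set _) := by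
    intro J' hJ' hne'
    refine le_inf (fun j hj => ?_) (Subgroup.commutator_eq_bot_iff_le_centralizer.1
      (Solv.components_commute hJ' hJ hne'))
    obtain ⟨J₀, -, huniq⟩ := h.comp T hT c hc hc1
    have hf : FixesMod c T J' := by
      by_contra hf
      exact hne' ((huniq J' ⟨hJ', hf⟩).trans (huniq J ⟨hJ, hJne⟩).symm)
    rw [hZ, Subgroup.mem_centralizer_iff]
    rintro _ ⟨t, ht, rfl⟩
    exact (hf t ht j hj).eq
  obtain ⟨R, hR⟩ : ∃ R : Subgroup (↥X ⧸ Cfsg.oddCore ↥X), R = ⨆ J' ∈ {J' | Cfsg.IsComponent J' ∧ J' ≠ J}, J' :=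
    ⟨_, rfl⟩
  have hRle : R ≤ Z ⊓ Subgroup.centralizer (J : Set _) := hR ▸ iSup₂_le fun J' hJ' => hother J' hJ'.1 hJ'.2
  have hlay : Cfsg.layer (↥X ⧸ Cfsg.oddCore ↥X) ≤ J ⊔ R := sSup_le fun J' hJ' => by
    by_cases e : J' = J
    · exact e ▸ le_sup_left
    · exact le_trans (hR ▸ le_iSup₂_of_le (f := fun J' _ => J') J' ⟨hJ', e⟩ le_rfl) le_sup_right
  -- the image of `K'`
  obtain ⟨P, hP⟩ : ∃ P, P = (K'.subgroupOf X).map π := ⟨_, rfl⟩
  have hperf : ⁅P, P⁆ = P := by
    rw [hP, ← Subgroup.map_commutator]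
    congr 1
    apply Subgroup.map_injective X.subtype_injective
    rw [Subgroup.map_commutator, Subgroup.map_subgroupOf_eq_of_le hK'X]
    have h1 := Solv.qs_self_commutator hK'd.2.2
    have h2 := congrArg (Subgroup.map (Subgroup.centralizer ({d} : Set G)).subtype) h1
    rwa [Subgroup.map_commutator, Subgroup.map_subgroupOf_eq_of_le hK'd.1] at h2
  haveI : Group.IsPerfect P := Subgroup.isPerfect_iff.2 hperf
  have hPl : P ≤ Cfsg.layer (↥X ⧸ Cfsg.oddCore ↥X) := by
    obtain ⟨F, hF⟩ : ∃ F, F = Cfsg.generalizedFittingSubgroup (↥X ⧸ Cfsg.oddCore ↥X) := ⟨_, rfl⟩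
    haveI : F.Normal := hF ▸ Local.gfit_normal
    haveI : (Cfsg.layer (↥X ⧸ Cfsg.oddCore ↥X)).Normal := Local.layer_normal
    have hPF : P ≤ F := by
      intro x hx
      haveI : Group.IsSolvable ((↥X ⧸ Cfsg.oddCore ↥X) ⧸ F) := odd_solvable_group
        (by rw [← Subgroup.index_eq_card, hF]; exact hidx c hc1)
      exact (QuotientGroup.eq_one_iff x).1 (eq_one_of_perfect (f := QuotientGroup.mk' F) P hx)
    intro x hx
    haveI : Group.IsNilpotent ↥(Cfsg.fittingSubgroup (↥X ⧸ Cfsg.oddCore ↥X)) := Solv.fittingSubgroup_nilpotent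
    haveI : Group.IsSolvable ↥((Cfsg.fittingSubgroup (↥X ⧸ Cfsg.oddCore ↥X)).map
        (QuotientGroup.mk' (Cfsg.layer (↥X ⧸ Cfsg.oddCore ↥X)))) :=
      Group.isSolvable_of_surjective (MonoidHom.subgroupMap_surjective _ _)
    refine (QuotientGroup.eq_one_iff x).1 ?_
    refine eq_one_of_perfect_le (f := QuotientGroup.mk' _) P
      ((Cfsg.fittingSubgroup (↥X ⧸ Cfsg.oddCore ↥X)).map (QuotientGroup.mk' _)) ?_ hx
    refine (Subgroup.map_mono hPF).trans ?_
    rw [hF, Cfsg.generalizedFittingSubgroup, Subgroup.map_sup]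
    exact sup_le (le_trans (le_of_eq ((Subgroup.map_eq_bot_iff _).2
      (QuotientGroup.ker_mk' _).ge)) bot_le) le_rfl
  have hPJ : P ≤ Subgroup.centralizer (J : Set _) := by
    rw [hP, hJdef]
    rintro _ ⟨k, hk, rfl⟩
    refine Subgroup.mem_centralizer_iff.2 ?_
    rintro _ ⟨j, hj, rfl⟩
    exact ((show Commute j k from Subtype.ext
      (Subgroup.mem_centralizer_iff.1 (hcomm hj) (k : G) hk).symm).map π).eq
  obtain ⟨Q, hQ⟩ : ∃ Q, Q = (J ⊓ Subgroup.centralizer (J : Set _)) ⊔ R := ⟨_, rfl⟩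
  have hPQ : P ≤ Q := by
    intro x hx
    have h1 : x ∈ J ⊔ R := hlay (hPl hx)
    have hn : R ≤ Subgroup.normalizer (J : Set _) :=
      hRle.trans (inf_le_right.trans (Subgroup.centralizer_le_normalizer _))
    rw [← SetLike.mem_coe, Subgroup.coe_mul_of_right_le_normalizer_left J R hn] at h1
    obtain ⟨j, hj, r, hr, rfl⟩ := h1
    rw [hQ]
    refine Subgroup.mul_mem _ (Subgroup.mem_sup_left (Subgroup.mem_inf.2 ⟨hj, ?_⟩)) (Subgroup.mem_sup_right hr)
    have e : j = j * r * r⁻¹ := by group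
    rw [e]
    exact Subgroup.mul_mem _ (hPJ hx) (Subgroup.inv_mem _ (Subgroup.mem_inf.1 (hRle hr)).2)
  have hQQ : ⁅Q, Q⁆ ≤ Z := by
    obtain ⟨C, hC⟩ : ∃ C, C = J ⊓ Subgroup.centralizer (J : Set _) := ⟨_, rfl⟩
    have hCJ : C ≤ J := hC.le.trans inf_le_left
    have hRC : R ≤ Subgroup.centralizer (C : Set _) :=
      hRle.trans (inf_le_right.trans (Subgroup.centralizer_le (SetLike.coe_subset_coe.2 hCJ)))
    have hCQ : C ≤ Subgroup.centralizer (Q : Set _) := by
      rw [Subgroup.le_centralizer_iff, hQ, ← hC]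
      exact sup_le (hC.le.trans (inf_le_right.trans (Subgroup.centralizer_le (SetLike.coe_subset_coe.2 hCJ)))) hRC
    refine Subgroup.commutator_le.2 fun a ha b hb => ?_
    have hn : R ≤ Subgroup.normalizer (C : Set _) := hRC.trans (Subgroup.centralizer_le_normalizer _)
    rw [hQ, ← hC, ← SetLike.mem_coe, Subgroup.coe_mul_of_right_le_normalizer_left C R hn] at ha hb
    obtain ⟨c₁, hc₁, r₁, hr₁, rfl⟩ := ha
    obtain ⟨c₂, hc₂, r₂, hr₂, rfl⟩ := hb
    have hm1 : r₁ ∈ Q := hQ ▸ Subgroup.mem_sup_right hr₁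
    have hm2 : r₂ ∈ Q := hQ ▸ Subgroup.mem_sup_right hr₂
    have hm3 : c₂ ∈ Q := hQ ▸ Subgroup.mem_sup_left (hC ▸ hc₂)
    have q1 : ∀ {a q}, a ∈ C → q ∈ Q → Commute q a := fun ha hq =>
      Subgroup.mem_centralizer_iff.1 (hCQ ha) _ hq
    have e : ⁅c₁ * r₁, c₂ * r₂⁆ = ⁅r₁, r₂⁆ := by
      have a1 : Commute r₁ c₂ := q1 hc₂ hm1
      have a2 : Commute r₂ c₁ := q1 hc₁ hm2
      have a3 : Commute c₂ c₁ := q1 hc₁ hm3
      calc ⁅c₁ * r₁, c₂ * r₂⁆ = c₁ * (r₁ * c₂) * r₂ * r₁⁻¹ * c₁⁻¹ * r₂⁻¹ * c₂⁻¹ := by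
            rw [commutatorElement_def]; group
        _ = c₂ * (c₁ * (r₁ * r₂ * r₁⁻¹) * c₁⁻¹) * r₂⁻¹ * c₂⁻¹ := by rw [a1.eq, ← mul_assoc c₁, ← a3.eq]; group
        _ = c₂ * (r₁ * r₂ * r₁⁻¹ * r₂⁻¹) * c₂⁻¹ := by
            have a4 : Commute c₁ (r₁ * r₂ * r₁⁻¹) :=
              (((q1 hc₁ hm1).symm).mul_right a2.symm).mul_right (q1 hc₁ hm1).symm.inv_right
            rw [a4.eq]; group
        _ = ⁅r₁, r₂⁆ := by
            have a5 : Commute c₂ (r₁ * r₂ * r₁⁻¹ * r₂⁻¹) :=
              ((((q1 hc₂ hm1).symm).mul_right (q1 hc₂ hm2).symm).mul_right (q1 hc₂ hm1).symm.inv_right).mul_right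
                (q1 hc₂ hm2).symm.inv_right
            rw [a5.eq, commutatorElement_def]; group
    rw [e, commutatorElement_def]
    exact Z.mul_mem (Z.mul_mem (Z.mul_mem (Subgroup.mem_inf.1 (hRle hr₁)).1 (Subgroup.mem_inf.1 (hRle hr₂)).1)
      (Z.inv_mem (Subgroup.mem_inf.1 (hRle hr₁)).1)) (Z.inv_mem (Subgroup.mem_inf.1 (hRle hr₂)).1)
  have hPZ : P ≤ Z := hperf.ge.trans ((Subgroup.commutator_mono hPQ hPQ).trans hQQ)
  -- so `T` centralises `K'`
  refine hne' fun t ht => ?_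
  haveI hsolO : Group.IsSolvable ↥(((Cfsg.oddCore ↥X).map X.subtype).subgroupOf H) := by
    refine StrongProd.solvable_of_odd (G := ↥H) ?_
    rw [← Nat.coprime_two_right]
    refine (oc_coprime c).coprime_dvd_left ?_
    rw [← Solv.card_map_subtype, Subgroup.subgroupOf_map_subtype]
    exact Subgroup.card_dvd_of_le inf_le_left
  haveI : (((Cfsg.oddCore ↥X).map X.subtype).subgroupOf H).Normal :=
    Subgroup.normal_subgroupOf_of_le_normalizer (inf_le_left.trans (oc_norm c))
  have hK'H : K' ≤ H := le_inf hK'X hK'd.1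
  have htH : t ∈ H := Subgroup.mem_inf.2 ⟨hTX ht,
    h.sep.le_centralizer (h.sep.others_le T hd) (h.sep.le T hT ht)⟩
  refine Subgroup.mem_centralizer_iff.2 fun k hk => ?_
  exact congrArg Subtype.val (commute_of_mod (componentOf_restrict hK'd hK'H inf_le_right).2
    (O := ((Cfsg.oddCore ↥X).map X.subtype).subgroupOf H) hsolO (t := ⟨t, htH⟩) (fun x hx => by
      refine ⟨⁅(⟨(x : G), hK'X hx⟩ : ↥X), ⟨t, hTX ht⟩⁆, ?_, rfl⟩
      show _ ∈ Cfsg.oddCore ↥X
      rw [← QuotientGroup.eq_one_iff, ← QuotientGroup.mk'_apply, map_commutatorElement,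
        commutatorElement_eq_one_iff_commute]
      have hxP : π ⟨(x : G), hK'X hx⟩ ∈ Z := hPZ (hP ▸ ⟨_, hx, rfl⟩)
      rw [hZ] at hxP
      exact (Subgroup.mem_centralizer_iff.1 hxP _ ⟨_, ht, rfl⟩).symm) ⟨k, hK'H hk⟩ hk).eq

/-- Two block components are equal or commute. -/
theorem blockComp_eq_or_commute (hidx : OddIndex G) {T U K L : Subgroup G} (hK : IsBlockComp B T K)
    (hL : IsBlockComp B U L) : K = L ∨ K ≤ Subgroup.centralizer (L : Set G) := by
  obtain ⟨V, hV, hVT, hVU⟩ := h.sep.exists_third T U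
  obtain ⟨e, he, he1⟩ := h.sep.exists_ne_one hV
  exact componentOf_eq_or_commute (comp_transfer h hW hidx hK (le_others hV hVT he) he1)
    (comp_transfer h hW hidx hL (le_others hV hVU he) he1)

/-- The centraliser of two blocks permutes the block components. -/
theorem blockComp_centralizer (hidx : OddIndex G) {T U : Subgroup G} (hT : T ∈ B) (hU : U ∈ B) (hne : T ≠ U) {g : G}
    (hg : g ∈ Subgroup.centralizer ((T ⊔ U : Subgroup G) : Set G)) {V K : Subgroup G} (hK : IsBlockComp B V K) :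
    ∃ V', IsBlockComp B V' (cj K g) := by
  obtain ⟨X, hX, hXV, hXle⟩ : ∃ X, X ∈ B ∧ X ≠ V ∧ X ≤ T ⊔ U := by
    by_cases e : T = V
    · exact ⟨U, hU, fun e' => hne (e.trans e'.symm), le_sup_right⟩
    · exact ⟨T, hT, e, le_sup_left⟩
  obtain ⟨e, he, he1⟩ := h.sep.exists_ne_one hX
  have heA := h.sep.le X hX he
  have hgX : g ∈ Subgroup.centralizer (X : Set G) := Subgroup.centralizer_le (SetLike.coe_subset_coe.2 hXle) hg
  have hXfix : cj X g = X := cj_eq_self (Subgroup.centralizer_le_normalizer _ hgX)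
  have hKe := comp_transfer h hW hidx hK (le_others hX hXV he) he1
  have hge : cj (Subgroup.centralizer ({e} : Set G)) g = Subgroup.centralizer ({e} : Set G) :=
    cj_eq_self (Subgroup.le_normalizer (Subgroup.centralizer_le (Set.singleton_subset_iff.2 he) hgX))
  have hKg : Cfsg.IsComponentOf (cj K g) (Subgroup.centralizer ({e} : Set G)) :=
    hge ▸ TerminalPair.componentOf_conj hKe (MulAut.conj g)
  obtain ⟨V', hV', hmoved, -⟩ := h.fixed e heA he1 _ (component_image hKg)
  have hXK : X ≤ Subgroup.centralizer (K : Set G) := (le_others hX hXV).trans (others_centralize h hW hK)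
  have hXK' : X ≤ Subgroup.centralizer ((cj K g : Subgroup G) : Set G) := by
    rw [← cj_centralizer, ← hXfix]
    exact cj_mono hXK g
  have hfixed : ∀ W' : Subgroup G, W' ≤ Subgroup.centralizer ((cj K g : Subgroup G) : Set G) →
      FixesMod e W' (((cj K g).subgroupOf (Subgroup.centralizer ({e} : Set G))).map
        (QuotientGroup.mk' (Cfsg.oddCore ↥(Subgroup.centralizer ({e} : Set G))))) := by
    rintro W' hW' t ht _ ⟨k, hk, rfl⟩
    exact (show Commute t k from
      Subtype.ext (Subgroup.mem_centralizer_iff.1 (hW' ht) (k : G) hk).symm).map (QuotientGroup.mk' _)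
  refine ⟨V', hV', e, le_others hX ?_ he, he1, hKg, fun hle => hmoved (hfixed V' hle)⟩
  rintro rfl
  exact hmoved (hfixed X hXK')

/-- `N(A)` permutes the block components. -/
theorem blockComp_normalizer {g : G} (hg : g ∈ Subgroup.normalizer (A : Set G)) {V K : Subgroup G}
    (hK : IsBlockComp B V K) : ∃ V', IsBlockComp B V' (cj K g) := by
  obtain ⟨hV, c, hc, hc1, hKc, hne⟩ := hK
  have hoth : cj (others B V) g ≤ others B (cj V g) := by
    rw [cj, others, Subgroup.map_iSup]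
    simp only [Subgroup.map_iSup]
    exact iSup₂_le fun U hU => iSup_le fun hUV => le_others (h.perm g hg U hU) fun e => hUV (by
      rw [← cj_cj_inv U g, ← cj_cj_inv V g]; exact congrArg (fun Z => cj Z g⁻¹) e)
  refine ⟨cj V g, h.perm g hg V hV, g * c * g⁻¹, hoth (conj_mem_cj hc), fun e => hc1 (conj_eq_one_iff.1 e), ?_,
    fun hle => hne ?_⟩
  · have e : cj (Subgroup.centralizer ({c} : Set G)) g = Subgroup.centralizer ({g * c * g⁻¹} : Set G) := by
      rw [← Subgroup.centralizer_closure, cj_centralizer, cj, MonoidHom.map_closure, Set.image_singleton,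
        Subgroup.centralizer_closure]
      rfl
    exact e ▸ TerminalPair.componentOf_conj hKc (MulAut.conj g)
  · rw [← cj_centralizer] at hle
    exact (Subgroup.map_le_map_iff_of_injective (MulAut.conj g).injective).1 hle

/-- The block case is contradictory. -/
theorem false_of_W_eq_bot (hG : MinHyp G) (hidx : OddIndex G) (hsol : ∀ (X : Type u) [Group X] [Finite X], SEB.Sol X) :
    False := by
  haveI := hG.simple
  obtain ⟨𝒦, h𝒦⟩ : ∃ 𝒦 : Set (Subgroup G), 𝒦 = {K | ∃ T, IsBlockComp B T K} := ⟨_, rfl⟩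
  obtain ⟨P, hP⟩ : ∃ P : Subgroup G, P = sSup 𝒦 := ⟨_, rfl⟩
  obtain ⟨K, hK⟩ : ∃ K, K ∈ 𝒦 := by
    obtain ⟨T, hT, U, hU, hne⟩ := h.sep.exists_two
    obtain ⟨c, hc, hc1⟩ := h.sep.exists_ne_one hU
    obtain ⟨K, hK, hmoved⟩ := exists_comp h hW hT (le_others hU hne.symm hc) hc1
    exact ⟨K, h𝒦 ▸ ⟨T, hT, c, le_others hU hne.symm hc, hc1, hK, hmoved⟩⟩
  have hmem : ∀ {L}, L ∈ 𝒦 ↔ ∃ T, IsBlockComp B T L := fun {L} => by rw [h𝒦]; rfl
  have hnorm : ∀ g : G, (∀ V L, IsBlockComp B V L → ∃ V', IsBlockComp B V' (cj L g)) →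
      g ∈ Subgroup.normalizer (P : Set G) := by
    intro g hg
    refine mem_normalizer_of_cj_le ?_
    rw [hP, cj_le_iff]
    refine sSup_le fun L hL => ?_
    obtain ⟨V, hV⟩ := hmem.1 hL
    rw [← cj_le_iff]
    exact le_sSup (hmem.2 (hg V L hV))
  have hpair : ∀ T ∈ B, ∀ U ∈ B, T ≠ U →
      Subgroup.centralizer ((T ⊔ U : Subgroup G) : Set G) ≤ Subgroup.normalizer (P : Set G) :=
    fun T hT U hU hne g hg => hnorm g fun V L hL => blockComp_centralizer h hW hidx hT hU hne hg hL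
  have hNA : Subgroup.normalizer (A : Set G) ≤ Subgroup.normalizer (P : Set G) :=
    fun g hg => hnorm g fun V L hL => blockComp_normalizer h hW hg hL
  refine h.no_over hsol hG.ab (M := Subgroup.normalizer (P : Set G)) (fun htop => ?_)
    (fun c hc hc1 => h.centralizer_le hidx hG.ab hpair hNA hc hc1
      (((theta_le_W hc hc1).trans hW.le).trans bot_le)) hNA
  obtain ⟨T, hT, c, hc, hc1, hKc, hne⟩ := hmem.1 hK
  have hKne : K ≠ ⊥ := fun e => by
    haveI := Solv.qs_nontrivial hKc.2.2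
    exact not_subsingleton _ ((Subgroup.subgroupOfEquivOfLe hKc.1).toEquiv.subsingleton_congr.2 (e ▸ inferInstance))
  haveI hPn : P.Normal := Subgroup.normalizer_eq_top_iff.1 htop
  rcases IsSimpleGroup.eq_bot_or_eq_top_of_normal P hPn with e | e
  · exact hKne (le_bot_iff.1 ((le_sSup hK).trans (hP.ge.trans e.le)))
  · haveI hKn : K.Normal := by
      rw [← Subgroup.normalizer_eq_top_iff, eq_top_iff, ← e, hP]
      refine sSup_le fun L hL => ?_
      obtain ⟨V, hV⟩ := hmem.1 hL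
      rcases blockComp_eq_or_commute h hW hidx hV ⟨hT, c, hc, hc1, hKc, hne⟩ with rfl | hcom
      · exact Subgroup.le_normalizer
      · exact hcom.trans (Subgroup.centralizer_le_normalizer _)
    rcases IsSimpleGroup.eq_bot_or_eq_top_of_normal K hKn with e' | e'
    · exact hKne e'
    · have hcen : c ∈ Subgroup.center G := Subgroup.mem_center_iff.2 fun x =>
        Subgroup.mem_centralizer_singleton_iff.1 (hKc.1 (e' ▸ Subgroup.mem_top x))
      rcases IsSimpleGroup.eq_bot_or_eq_top_of_normal (Subgroup.center G) inferInstance with z | z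
      · exact hc1 (Subgroup.mem_bot.1 (z ▸ hcen))
      · exact hG.nonab ⟨⟨fun a b => (Subgroup.mem_center_iff.1 (z ▸ Subgroup.mem_top a : a ∈ Subgroup.center G) b).symm⟩⟩

end Trivial

/-- The block case does not occur. -/
theorem blocks_false (h : Blocks A B) (hG : MinHyp G) (hidx : OddIndex G)
    (hsol : ∀ (X : Type u) [Group X] [Finite X], SEB.Sol X) : False :=
  false_of_W_eq_bot h (h.W_eq_bot hG hidx hsol) hG hidx hsol

end Cfsg.Agent.Walter
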