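import Cfsg.Agent.Lib.Walter.Core.Defs
import Cfsg.Agent.Lib.Solv.CoreSepFunctor
import Cfsg.Agent.Lib.Fusion.Product.Functor

/-!
# Goldschmidt's functor of the blocks: local facts

For a block `T` let `th T a = [O(C(a)), T] (O(C(a)) ∩ O(C(T)))`.  As the components of `C(c)/O(C(c))`, `c ∈ T`, are
fixed by `T`, its `T`-fixed part lies in `O(C(T))`.
-/

set_option autoImplicit false
set_option linter.style.haveILetI false
set_option linter.unusedSectionVars false

open Cfsg Cfsg.Agent Cfsg.Agent.Fusion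
open scoped commutatorElement Pointwise

namespace Cfsg.Agent.Walter

open Cfsg.Agent.Solv (CycQuot)
open Cfsg.Agent.Solv.CoreSep (coreS coreS_le coreS_norm coreS_odd th)

universe u

variable {G : Type u} [Group G] [Finite G]

/-- The blocks other than `T`. -/
def others (B : Finset (Subgroup G)) (T : Subgroup G) : Subgroup G := ⨆ U ∈ B, ⨆ _ : U ≠ T, U

theorem le_others {B : Finset (Subgroup G)} {T U : Subgroup G} (hU : U ∈ B) (h : U ≠ T) : U ≤ others B T :=
  le_iSup₂_of_le (f := fun V _ => ⨆ _ : V ≠ T, V) U hU (le_iSup (fun _ : U ≠ T => U) h)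

/-- The odd core of `C(c)`, as a subgroup of `G`. -/
abbrev oc (c : G) : Subgroup G := Cfsg.centralizerPPrimeCore 2 c

theorem oc_le (c : G) : oc c ≤ Subgroup.centralizer ({c} : Set G) := coreS_le _

theorem oc_norm (c : G) : Subgroup.centralizer ({c} : Set G) ≤ Subgroup.normalizer (oc c : Set G) :=
  coreS_norm _

theorem oc_coprime (c : G) : (Nat.card (oc c)).Coprime 2 := coreS_odd _

theorem oc_odd (c : G) : Odd (Nat.card (oc c)) := Nat.coprime_two_right.1 (oc_coprime c)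

theorem coprime_le {H K : Subgroup G} (h : H ≤ K) (hK : (Nat.card K).Coprime 2) : (Nat.card H).Coprime 2 :=
  hK.coprime_dvd_left (Subgroup.card_dvd_of_le h)

/-- A subgroup of odd order of `C(T)`, normalised by `C(T)`, lies in the core. -/
theorem le_coreS {T : Subgroup G} {X : Subgroup G} (hX : X ≤ Subgroup.centralizer (T : Set G))
    (hn : Subgroup.centralizer (T : Set G) ≤ Subgroup.normalizer (X : Set G))
    (hodd : (Nat.card X).Coprime 2) : X ≤ coreS (T : Set G) := by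
  haveI : Fact (Nat.Prime 2) := ⟨Nat.prime_two⟩
  haveI : (X.subgroupOf (Subgroup.centralizer (T : Set G))).Normal :=
    Subgroup.normal_subgroupOf_of_le_normalizer hn
  rw [coreS, ← Subgroup.map_subgroupOf_eq_of_le hX]
  refine Subgroup.map_mono (le_pPrimeCore ?_)
  rw [Solv.card_subgroupOf hX]
  exact hodd

/-- Elements of `O(C(c))`, `c ∈ T`, centralising `T` lie in `O(C(T))`. -/
theorem oc_inf_le_coreS {T : Subgroup G} {c : G} (hc : c ∈ T) :
    oc c ⊓ Subgroup.centralizer (T : Set G) ≤ coreS (T : Set G) := by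
  refine le_coreS inf_le_right (fun g hg => ?_) (coprime_le inf_le_left (oc_coprime c))
  refine (Solv.normalizer_smul_inf (H := oc c) (T := Subgroup.centralizer (T : Set G)) (A := Subgroup.zpowers g)
    ?_ ?_) (Subgroup.mem_zpowers g)
  · rw [Subgroup.zpowers_le]
    exact oc_norm c (Subgroup.centralizer_le (Set.singleton_subset_iff.2 hc) hg)
  · rw [Subgroup.zpowers_le]
    exact Subgroup.le_normalizer hg

/-- The hypotheses on the blocks used by the functor. -/
structure Sep (A : Subgroup G) (B : Finset (Subgroup G)) : Prop where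
  sq : ∀ x ∈ A, x ^ 2 = 1
  le : ∀ T ∈ B, T ≤ A
  big : ∀ T ∈ B, 4 ≤ Nat.card T
  three : 3 ≤ B.card
  indep : ∀ T ∈ B, T ⊓ others B T = ⊥
  span : A = ⨆ T ∈ B, T
  fixed : ∀ c ∈ A, c ≠ 1 → ∀ J, Cfsg.IsComponent J →
    ∃ T ∈ B, ¬ FixesMod c T J ∧ ∀ U ∈ B, U ≠ T → FixesMod c U J

theorem Blocks.sep {A : Subgroup G} {B : Finset (Subgroup G)} (h : Blocks A B) : Sep A B where
  sq := h.sq
  le := fun T hT => h.span ▸ le_iSup₂_of_le (f := fun U _ => U) T hT le_rfl
  big := h.big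
  three := h.three
  indep := h.indep
  span := h.span
  fixed := h.fixed

namespace Sep

variable {A : Subgroup G} {B : Finset (Subgroup G)} (h : Sep A B)
include h

theorem commute {a b : G} (ha : a ∈ A) (hb : b ∈ A) : a * b = b * a :=
  StrongProd.commute_of_sq (E := A) (fun g hg => by rw [← pow_two]; exact h.sq g hg) ha hb

theorem comm : IsMulCommutative A :=
  StrongProd.comm_of_sq (E := A) fun g hg => by rw [← pow_two]; exact h.sq g hg

theorem elementary : Cfsg.IsElementaryAbelian 2 A := ⟨h.comm, h.sq⟩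

theorem le_centralizer {a : G} (ha : a ∈ A) : A ≤ Subgroup.centralizer ({a} : Set G) :=
  fun _ hb => Subgroup.mem_centralizer_singleton_iff.2 (h.commute hb ha)

theorem norm_oc {a : G} (ha : a ∈ A) : A ≤ Subgroup.normalizer (oc a : Set G) :=
  (h.le_centralizer ha).trans (oc_norm a)

theorem le_centralizer_block {T : Subgroup G} (hT : T ∈ B) : A ≤ Subgroup.centralizer (T : Set G) :=
  fun _ hb => Subgroup.mem_centralizer_iff.2 fun _ hx => h.commute (h.le T hT hx) hb

theorem pgroup {K : Subgroup G} (hK : K ≤ A) : IsPGroup 2 K := fun x => ⟨1, Subtype.ext (by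
  rw [pow_one, SubmonoidClass.coe_pow]; exact h.sq x (hK x.2))⟩

theorem coprime {K X : Subgroup G} (hK : K ≤ A) (hX : (Nat.card X).Coprime 2) :
    (Nat.card K).Coprime (Nat.card X) := by
  haveI : Fact (Nat.Prime 2) := ⟨Nat.prime_two⟩
  obtain ⟨k, hk⟩ := IsPGroup.iff_card.1 (h.pgroup hK)
  rw [hk]
  exact (Nat.coprime_comm.1 hX).pow_left k

theorem solvable {K : Subgroup G} (hK : K ≤ A) : Group.IsSolvable K :=
  Group.isSolvable_of_comm fun s t => Subtype.ext (h.commute (hK s.2) (hK t.2))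

/-- A block contains a nontrivial element of each of its subgroups with cyclic quotient. -/
theorem exists_ne {T K : Subgroup G} (hT : T ∈ B) (hK : K ∈ CycQuot T) : ∃ c ∈ K, c ≠ 1 := by
  by_contra hno
  push Not at hno
  obtain ⟨-, g, hg, e⟩ := hK
  rw [(Subgroup.eq_bot_iff_forall K).2 hno, bot_sup_eq] at e
  have h4 := h.big T hT
  rw [← e, Nat.card_zpowers] at h4
  have := Nat.le_of_dvd two_pos (orderOf_dvd_of_pow_eq_one (h.sq g (h.le T hT hg)))
  omega

theorem exists_ne_one {T : Subgroup G} (hT : T ∈ B) : ∃ c ∈ T, c ≠ 1 := by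
  by_contra hno
  push Not at hno
  have := h.big T hT
  rw [(Subgroup.eq_bot_iff_forall T).2 hno, Subgroup.card_bot] at this
  omega

theorem others_le (T : Subgroup G) : others B T ≤ A :=
  iSup₂_le fun U hU => iSup_le fun _ => h.le U hU

/-- Coordinates at a block. -/
theorem split {T : Subgroup G} (hT : T ∈ B) (hspan : A = ⨆ U ∈ B, U) {a : G} (ha : a ∈ A) :
    ∃ a₁ ∈ T, ∃ a₂ ∈ others B T, a = a₁ * a₂ := by
  have hn : others B T ≤ Subgroup.normalizer (T : Set G) := fun y hy =>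
    Subgroup.centralizer_le_normalizer _ (h.le_centralizer_block hT (h.others_le T hy))
  have hle : A ≤ T ⊔ others B T := hspan.le.trans (iSup₂_le fun U hU => by
    by_cases e : U = T
    · exact e ▸ le_sup_left
    · exact (le_others hU e).trans le_sup_right)
  have h1 := hle ha
  rw [← SetLike.mem_coe, Subgroup.coe_mul_of_right_le_normalizer_left _ _ hn] at h1
  obtain ⟨x, hx, y, hy, e⟩ := h1
  exact ⟨x, hx, y, hy, e.symm⟩

/-- A component is fixed by a block or by all the others. -/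
theorem fixed_split {T : Subgroup G} (hT : T ∈ B) {c : G} (hc : c ∈ A) (hc1 : c ≠ 1)
    {J} (hJ : Cfsg.IsComponent J) : FixesMod c T J ∨ FixesMod c (others B T) J := by
  obtain ⟨U, hU, -, hfix⟩ := h.fixed c hc hc1 J hJ
  by_cases e : T = U
  · set Z : Subgroup G := ((Subgroup.centralizer (J : Set _)).comap
      (QuotientGroup.mk' (Cfsg.oddCore ↥(Subgroup.centralizer ({c} : Set G))))).map
        (Subgroup.centralizer ({c} : Set G)).subtype
    have hle : others B T ≤ Z := iSup₂_le fun V hV => iSup_le fun hne x hx =>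
      ⟨⟨x, h.le_centralizer hc (h.le V hV hx)⟩, Subgroup.mem_centralizer_iff.2 fun j hj =>
        (hfix V hV (e ▸ hne) _ hx j hj).symm.eq, rfl⟩
    refine Or.inr fun t ht j hj => ?_
    obtain ⟨t', ht', he⟩ := hle ht
    obtain rfl : t' = t := Subtype.ext he
    exact ((Subgroup.mem_centralizer_iff.1 ht') j hj).symm
  · exact Or.inl (hfix T hT e)

/-- Of two different blocks one fixes a given component. -/
theorem fixed_pair {T U : Subgroup G} (hT : T ∈ B) (hU : U ∈ B) (hne : T ≠ U) {b : G} (hb : b ∈ A) (hb1 : b ≠ 1)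
    {J} (hJ : Cfsg.IsComponent J) : FixesMod b T J ∨ FixesMod b U J := by
  obtain ⟨V, hV, -, hfix⟩ := h.fixed b hb hb1 J hJ
  by_cases hTV : T = V
  · exact Or.inr (hfix U hU fun e => hne (hTV.trans e.symm))
  · exact Or.inl (hfix T hT hTV)

theorem th_le {T : Subgroup G} (hT : T ∈ B) {a : G} (ha : a ∈ A) : th T a ≤ oc a :=
  sup_le (Solv.commutator_normal_in ((h.le T hT).trans (h.norm_oc ha))).1 inf_le_left

theorem th_norm {T : Subgroup G} (hT : T ∈ B) {a : G} (ha : a ∈ A) :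
    A ≤ Subgroup.normalizer (th T a : Set G) := by
  refine Solv.normalizer_smul_sup (fun b hb => Solv.mem_normalizer_of_conj_smul ?_)
    (Solv.normalizer_smul_inf (h.norm_oc ha) ((h.le_centralizer_block hT).trans (coreS_norm _)))
  rw [Solv.conj_smul_eq_map, Subgroup.map_commutator, ← Solv.conj_smul_eq_map, ← Solv.conj_smul_eq_map,
    Solv.conj_smul_of_mem_normalizer (h.norm_oc ha hb),
    Solv.conj_smul_of_mem_normalizer (Subgroup.centralizer_le_normalizer _ (h.le_centralizer_block hT hb))]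

/-- The key fact: the fixed part of `[O(C(a)), T]` lies in `O(C(T))`.  A component of a `C(c)`, `c ∈ T`, is fixed
by `T` or by the other blocks. -/
theorem comm_fixed_le {T : Subgroup G} (hT : T ∈ B) {a : G} (ha : a ∈ A) :
    ⁅oc a, T⁆ ⊓ Subgroup.centralizer (T : Set G) ≤ coreS (T : Set G) := by
  classical
  haveI : Fact (Nat.Prime 2) := ⟨Nat.prime_two⟩
  set O := oc a with hO
  have hAO : T ≤ Subgroup.normalizer (O : Set G) := (h.le T hT).trans (h.norm_oc ha)
  obtain ⟨hYO, -, hAY⟩ := Solv.commutator_normal_in hAO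
  have hOodd : (Nat.card O).Coprime 2 := coreS_odd _
  have hcoA : (Nat.card T).Coprime (Nat.card O) := h.coprime (h.le T hT) hOodd
  have hTc : IsMulCommutative T := ⟨⟨fun s t => Subtype.ext (h.commute (h.le T hT s.2) (h.le T hT t.2))⟩⟩
  have hsolA : Group.IsSolvable T := h.solvable (h.le T hT)
  have hYA : ⁅⁅O, T⁆, T⁆ = ⁅O, T⁆ := Solv.commutator_commutator_eq hAO hcoA (Or.inl hsolA)
  have hYodd : Odd (Nat.card ↥⁅O, T⁆) :=
    Nat.coprime_two_left.1 (hOodd.coprime_dvd_left (Subgroup.card_dvd_of_le hYO)).symm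
  refine le_trans (Solv.FixedGen.fixed_le_fixGen hTc hAY
    (hcoA.coprime_dvd_right (Subgroup.card_dvd_of_le hYO)) hYA (StrongProd.solvable_of_odd hYodd)) (iSup₂_le fun K hK => ?_)
  rintro z ⟨hz, hzA⟩
  obtain ⟨c, hcK, hc1⟩ := h.exists_ne hT hK
  have hcA : c ∈ T := hK.1 hcK
  have hc : c ∈ A := h.le T hT hcA
  set W := O ⊓ Subgroup.centralizer ({c} : Set G) with hWdef
  have hAW : T ≤ Subgroup.normalizer (W : Set G) :=
    Solv.normalizer_smul_inf hAO fun t ht => Subgroup.le_normalizer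
      (Subgroup.mem_centralizer_singleton_iff.2 (h.commute (h.le T hT ht) hc))
  have hzW : z ∈ ⁅W, T⁆ := Subgroup.commutator_mono (inf_le_inf hYO
    (Subgroup.centralizer_le (Set.singleton_subset_iff.2 hcK))) le_rfl hz
  have hzO : z ∈ O := ((Solv.commutator_normal_in hAW).1 hzW).1
  -- the criterion in `C(T)`
  set C₁ := Subgroup.centralizer (T : Set G) with hC₁
  set Cc := Subgroup.centralizer ({c} : Set G) with hCc
  have hle : C₁ ≤ Cc := Subgroup.centralizer_le (Set.singleton_subset_iff.2 hcA)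
  set V := (O ⊓ C₁).subgroupOf C₁ with hVdef
  have haC₁ : a ∈ C₁ := h.le_centralizer_block hT ha
  have ha2 : (⟨a, haC₁⟩ : ↥C₁) ^ 2 = 1 := Subtype.ext (h.sq a ha)
  have hVa : V ≤ Subgroup.centralizer {(⟨a, haC₁⟩ : ↥C₁)} := fun v hv =>
    Subgroup.mem_centralizer_singleton_iff.2 (Subtype.ext
      (Subgroup.mem_centralizer_singleton_iff.1 (coreS_le _ (Subgroup.mem_inf.1 hv).1)))
  have hVn : Subgroup.centralizer {(⟨a, haC₁⟩ : ↥C₁)} ≤ Subgroup.normalizer (V : Set ↥C₁) := fun v hv => by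
    have hv' : (v : G) ∈ Subgroup.centralizer ({a} : Set G) := Subgroup.mem_centralizer_singleton_iff.2
      (congrArg Subtype.val (Subgroup.mem_centralizer_singleton_iff.1 hv))
    refine Subgroup.mem_normalizer_iff.2 fun x => ?_
    simp only [hVdef, Subgroup.mem_subgroupOf, Subgroup.mem_inf, x.2, (v * x * v⁻¹).2, and_true]
    exact Subgroup.mem_normalizer_iff.1 (coreS_norm _ hv') x
  have hVodd : (Nat.card V).Coprime 2 := by
    rw [hVdef, Solv.card_subgroupOf inf_le_right]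
    exact hOodd.coprime_dvd_left (Subgroup.card_dvd_of_le inf_le_left)
  refine ⟨⟨z, hzA⟩, Solv.CoreSep.mem_core ha2 hVa hVn hVodd (show (⟨z, hzA⟩ : ↥C₁) ∈ V from ⟨hzO, hzA⟩) fun J hJ => ?_, rfl⟩
  -- the layers
  set π₁ := QuotientGroup.mk' (Cfsg.pPrimeCore 2 ↥C₁) with hπ₁
  set πc := QuotientGroup.mk' (Cfsg.pPrimeCore 2 ↥Cc) with hπc
  let incl : ↥C₁ →* ↥Cc := Subgroup.inclusion hle
  let g : ↥C₁ →* ↥Cc ⧸ Cfsg.pPrimeCore 2 ↥Cc := πc.comp incl
  set Ac := T.subgroupOf Cc with hAc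
  have hTCc : T ≤ Cc := (h.le T hT).trans (h.le_centralizer hc)
  have hlay : (Cfsg.pLayer 2 ↥C₁).map incl ≤ Cfsg.pLayer 2 ↥Cc := by
    refine Subgroup.map_le_iff_le_comap.2 (sSup_le fun E hE => Subgroup.map_le_iff_le_comap.1 ?_)
    set Nc := Subgroup.normalizer (Ac : Set ↥Cc) with hNc
    set C' := C₁.subgroupOf Cc with hC'
    have hC'N : C' ≤ Nc := fun x hx => Subgroup.centralizer_le_normalizer _ (Subgroup.mem_centralizer_iff.2
      fun y hy => Subtype.ext (Subgroup.mem_centralizer_iff.1 hx _ hy))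
    set E' := E.map incl with hE'
    have hE'C : E' ≤ C' := by
      rintro _ ⟨x, -, rfl⟩
      exact x.2
    have hp : Cfsg.IsPComponentOf 2 E' Nc := by
      refine PComp.pcompOf_trans ?_ hC'N ?_
      · obtain ⟨hsn, hq⟩ := (PComp.isPComponent_iff (p := 2)).1 hE
        refine PComp.pcompOf_iff.2 ⟨hE'C, ?_, hq.congr (E.equivMapOfInjective incl (Subgroup.inclusion_injective hle))⟩
        have e : E'.subgroupOf C' = E.comap (Subgroup.subgroupOfEquivOfLe hle).toMonoidHom := by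
          ext x
          refine ⟨?_, fun hx => ⟨_, hx, Subtype.ext rfl⟩⟩
          rintro ⟨y, hy, hxy⟩
          have : Subgroup.subgroupOfEquivOfLe hle x = y := Subtype.ext (congrArg Subtype.val hxy).symm
          show Subgroup.subgroupOfEquivOfLe hle x ∈ E
          rw [this]; exact hy
        rw [e]
        exact hsn.comap _
      · refine Subgroup.Normal.isSubnormal ((Subgroup.normal_subgroupOf_iff_le_normalizer hC'N).2 fun n hn => ?_)
        have hn' : ∀ y : ↥Cc, (y : G) ∈ T ↔ ((n * y * n⁻¹ : ↥Cc) : G) ∈ T := Subgroup.mem_normalizer_iff.1 hn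
        refine Cfsg.Agent.Fusion.mem_normalizer_of_cj_le ?_
        rintro _ ⟨x, hx, rfl⟩
        refine Subgroup.mem_centralizer_iff.2 fun t ht => ?_
        have ht' := (hn' (n⁻¹ * ⟨t, hTCc ht⟩ * n)).2 (by simpa [mul_assoc] using ht)
        have h1 := Subgroup.mem_centralizer_iff.1 hx _ ht'
        simp only [MulEquiv.coe_toMonoidHom, MulAut.conj_apply, Subgroup.subtype_apply, Subgroup.coe_mul, Subgroup.coe_inv] at h1 ⊢
        calc t * ((n : G) * x * (n : G)⁻¹) = (n : G) * (((n : G)⁻¹ * t * n) * x) * (n : G)⁻¹ := by group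
          _ = _ := by rw [h1]; group
    exact (PComp.pcompOf_le_pLayerOf hp).trans (LBal.pLayer_balance_two ((h.pgroup (h.le T hT)).comap_subtype (K := Cc)))
  haveI : (Cfsg.layer (↥Cc ⧸ Cfsg.pPrimeCore 2 ↥Cc)).Normal := Local.layer_normal
  set Λ := Cfsg.layer (↥Cc ⧸ Cfsg.pPrimeCore 2 ↥Cc) with hΛ
  have hglay : (Cfsg.pLayer 2 ↥C₁).map g ≤ Λ := by
    rw [← Subgroup.map_map, hΛ, ← map_pLayer]
    exact Subgroup.map_mono hlay
  -- the components fixed by `T`
  set S₁ := {F : Subgroup (↥Cc ⧸ Cfsg.pPrimeCore 2 ↥Cc) | Cfsg.IsComponent F ∧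
    ∀ t : ↥Cc, (t : G) ∈ T → ∀ j ∈ F, πc t * j = j * πc t} with hS₁
  set P₁ := sSup S₁ with hP₁
  have hΛP : Λ ≤ Subgroup.normalizer (P₁ : Set _) := by
    intro l hl
    refine Cfsg.Agent.Fusion.mem_normalizer_of_cj_le ?_
    rw [cj, Subgroup.map_le_iff_le_comap]
    refine sSup_le fun F hF => Subgroup.map_le_iff_le_comap.1 (le_trans (le_of_eq ?_) (le_sSup hF))
    exact cj_eq_self (layer_le_normalizer_component hF.1 hl)
  obtain ⟨a₁, ha₁, a₂, ha₂, hsplit⟩ := h.split hT h.span ha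
  set αc : ↥Cc := ⟨a₂, h.le_centralizer hc (h.others_le T ha₂)⟩
  set τc := πc αc with hτc
  have hτP : τc ∈ Subgroup.normalizer (P₁ : Set _) := by
    refine Cfsg.Agent.Fusion.mem_normalizer_of_cj_le ?_
    rw [cj, Subgroup.map_le_iff_le_comap]
    refine sSup_le fun F hF => Subgroup.map_le_iff_le_comap.1 (le_sSup ⟨Solv.component_conj hF.1 τc, ?_⟩)
    rintro t ht _ ⟨j, hj, rfl⟩
    have e : Commute (πc t) τc := (show Commute t αc from Subtype.ext (h.commute (h.le T hT ht) (h.others_le T ha₂))).map πc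
    simp only [MulEquiv.coe_toMonoidHom, MulAut.conj_apply]
    calc πc t * (τc * j * τc⁻¹) = τc * (πc t * j) * τc⁻¹ := by rw [← mul_assoc, ← mul_assoc, e.eq]; group
      _ = τc * j * (πc t * τc⁻¹) := by rw [hF.2 t ht j hj]; group
      _ = _ := by rw [e.inv_right.eq]; group
  let S : Subgroup (↥Cc ⧸ Cfsg.pPrimeCore 2 ↥Cc) :=
    { carrier := {l | l ∈ Subgroup.normalizer (P₁ : Set (↥Cc ⧸ Cfsg.pPrimeCore 2 ↥Cc)) ∧ ⁅l, τc⁆ ∈ P₁}
      one_mem' := ⟨one_mem _, by rw [commutatorElement_one_left]; exact one_mem _⟩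
      mul_mem' := fun {l m} ⟨hl, gl⟩ ⟨hm, gm⟩ => ⟨mul_mem hl hm, by
        rw [show ⁅l * m, τc⁆ = l * ⁅m, τc⁆ * l⁻¹ * ⁅l, τc⁆ by simp only [commutatorElement_def]; group]
        exact mul_mem ((Subgroup.mem_normalizer_iff.1 hl _).1 gm) gl⟩
      inv_mem' := fun {l} ⟨hl, gl⟩ => ⟨inv_mem hl, by
        rw [show ⁅l⁻¹, τc⁆ = l⁻¹ * ⁅l, τc⁆⁻¹ * l⁻¹⁻¹ by simp only [commutatorElement_def]; group]
        exact (Subgroup.mem_normalizer_iff.1 (inv_mem hl) _).1 (inv_mem gl)⟩ }
  have hΛS : Λ ≤ S := sSup_le fun F hF f hf => by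
    refine ⟨hΛP (Solv.component_le_layer hF hf), ?_⟩
    rcases h.fixed_split hT hc hc1 hF with h | h
    · have hfP : f ∈ P₁ := le_sSup (show F ∈ S₁ from ⟨hF, fun t ht j hj => (h t ht j hj).eq⟩) hf
      rw [commutatorElement_def, show f * τc * f⁻¹ * τc⁻¹ = f * (τc * f⁻¹ * τc⁻¹) by group]
      exact mul_mem hfP ((Subgroup.mem_normalizer_iff.1 hτP _).1 (inv_mem hfP))
    · rw [show ⁅f, τc⁆ = 1 from commutatorElement_eq_one_iff_commute.2 (h αc ha₂ f hf).symm]
      exact one_mem _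
  -- the action of `z` on `P₁`
  set u : ↥C₁ := ⟨z, hzA⟩ with hu
  have haCc : a ∈ Cc := h.le_centralizer hc ha
  have hzP : g u ∈ Subgroup.centralizer (P₁ : Set _) := by
    have hWc : W ≤ Cc := inf_le_right
    have hWn' : Subgroup.centralizer {(⟨a, haCc⟩ : ↥Cc)} ≤ Subgroup.normalizer (W.subgroupOf Cc : Set ↥Cc) :=
      fun v hv => by
        refine Subgroup.mem_normalizer_iff.2 fun x => ?_
        simp only [hWdef, Subgroup.mem_subgroupOf, Subgroup.mem_inf, (v * x * v⁻¹).2, x.2, and_true]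
        exact Subgroup.mem_normalizer_iff.1 (coreS_norm _ (Subgroup.mem_centralizer_singleton_iff.2
          (congrArg Subtype.val (Subgroup.mem_centralizer_singleton_iff.1 hv)))) x
    have hWodd : (Nat.card (W.subgroupOf Cc)).Coprime 2 := by
      rw [Solv.card_subgroupOf hWc]
      exact hOodd.coprime_dvd_left (Subgroup.card_dvd_of_le inf_le_left)
    have hWa' : W.subgroupOf Cc ≤ Subgroup.centralizer {(⟨a, haCc⟩ : ↥Cc)} := fun v hv =>
      Subgroup.mem_centralizer_singleton_iff.2 (Subtype.ext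
        (Subgroup.mem_centralizer_singleton_iff.1 (coreS_le _ (Subgroup.mem_inf.1 hv).1)))
    have hzc : incl u ∈ ⁅W.subgroupOf Cc, Ac⁆ := by
      have h2 : (⁅W.subgroupOf Cc, Ac⁆).map Cc.subtype = ⁅W, T⁆ := by
        rw [Subgroup.map_commutator, Subgroup.map_subgroupOf_eq_of_le hWc, Subgroup.map_subgroupOf_eq_of_le hTCc]
      obtain ⟨w, hw, e⟩ := h2.ge hzW
      rwa [show incl u = w from Subtype.ext e.symm]
    rw [← Subgroup.zpowers_le]
    refine Subgroup.le_centralizer_iff.1 (sSup_le fun F hF => Subgroup.le_centralizer_iff.1 ?_)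
    rw [Subgroup.zpowers_le]
    exact Solv.CoreSep.comm_cent (Solv.CoreSep.normalizes (Subtype.ext (h.sq a ha)) hWa' hWn' hWodd hF.1) (fun t ht => hF.2 t ht)
      ⟨incl u, hzc, rfl⟩
  -- the part of the layer over `P₁`
  haveI : (Cfsg.pLayer 2 ↥C₁).Normal := pLayer_normal
  set N₁ := Cfsg.pLayer 2 ↥C₁ ⊓ P₁.comap g with hN₁
  set M := N₁.map π₁
  set Λ₁ := Cfsg.layer (↥C₁ ⧸ Cfsg.pPrimeCore 2 ↥C₁) with hΛ₁
  have hΛ₁eq : (Cfsg.pLayer 2 ↥C₁).map π₁ = Λ₁ := map_pLayer
  have hMle : M ≤ Λ₁ := hΛ₁eq ▸ Subgroup.map_mono inf_le_left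
  have hMn : Λ₁ ≤ Subgroup.normalizer (M : Set _) := by
    rw [← hΛ₁eq]
    refine (Subgroup.map_mono fun l hl => ?_).trans (Subgroup.le_normalizer_map π₁)
    refine Cfsg.Agent.Fusion.mem_normalizer_of_cj_le ?_
    rintro _ ⟨n, hn, rfl⟩
    refine Subgroup.mem_inf.2 ⟨Subgroup.Normal.conj_mem inferInstance n hn.1 l, ?_⟩
    rw [Subgroup.mem_comap]
    simp only [MulEquiv.coe_toMonoidHom, MulAut.conj_apply, map_mul, map_inv]
    exact (Subgroup.mem_normalizer_iff.1 (hΛP (hglay ⟨l, hl, rfl⟩)) _).1 hn.2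
  haveI : (M.subgroupOf Λ₁).Normal := (Subgroup.normal_subgroupOf_iff_le_normalizer hMle).2 hMn
  rcases Solv.component_normal_dichotomy (Solv.component_subgroupOf hJ (Solv.component_le_layer hJ)) (M.subgroupOf Λ₁) with hd | hd
  · -- `J` lies over `P₁`
    refine Subgroup.mem_centralizer_iff.2 fun j hj => ?_
    obtain ⟨n, hn, rfl⟩ : j ∈ M := hd (show (⟨j, Solv.component_le_layer hJ hj⟩ : ↥Λ₁) ∈ J.subgroupOf Λ₁ from hj)
    have hker : g.ker ≤ Cfsg.pPrimeCore 2 ↥C₁ := by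
      haveI : g.ker.Normal := g.normal_ker
      refine le_pPrimeCore ?_
      rw [show g.ker = (Cfsg.pPrimeCore 2 ↥Cc).comap incl by
        ext y; exact QuotientGroup.eq_one_iff _]
      refine (card_pPrimeCore_coprime 2 ↥Cc).coprime_dvd_left ?_
      rw [← Subgroup.card_map_of_injective (f := incl) (Subgroup.inclusion_injective hle)]
      exact Subgroup.card_dvd_of_le (Subgroup.map_comap_le _ _)
    have h1 : ⁅n, u⁆ ∈ g.ker := by
      rw [MonoidHom.mem_ker, map_commutatorElement, commutatorElement_eq_one_iff_mul_comm]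
      exact Subgroup.mem_centralizer_iff.1 hzP _ hn.2
    have h2 := hker h1
    rw [← QuotientGroup.eq_one_iff, ← QuotientGroup.mk'_apply, map_commutatorElement,
      commutatorElement_eq_one_iff_mul_comm] at h2
    exact h2
  · -- `a` fixes `J`
    set α : ↥C₁ := ⟨a₂, h.le_centralizer_block hT (h.others_le T ha₂)⟩ with hα
    set τ := π₁ α with hτ
    have hcomm : ∀ j ∈ J, ∀ k ∈ J, ⁅j, τ⁆ * k = k * ⁅j, τ⁆ := by
      intro j hj k hk
      have hjΛ : j ∈ (Cfsg.pLayer 2 ↥C₁).map π₁ := hΛ₁eq ▸ Solv.component_le_layer hJ hj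
      obtain ⟨l, hl, rfl⟩ := hjΛ
      have hmem : ⁅l, α⁆ ∈ N₁ := by
        refine Subgroup.mem_inf.2 ⟨?_, ?_⟩
        · rw [commutatorElement_def, show l * α * l⁻¹ * α⁻¹ = l * (α * l⁻¹ * α⁻¹) by group]
          exact mul_mem hl (Subgroup.Normal.conj_mem inferInstance _ (inv_mem hl) α)
        · rw [Subgroup.mem_comap, map_commutatorElement, show g α = τc from rfl]
          exact (hΛS (hglay ⟨l, hl, rfl⟩)).2
      have hM : ⁅π₁ l, τ⁆ ∈ M := ⟨_, hmem, map_commutatorElement _ _ _⟩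
      have h3 := Subgroup.mem_centralizer_iff.1 (Subgroup.commutator_eq_bot_iff_le_centralizer.1 hd
        (show (⟨k, Solv.component_le_layer hJ hk⟩ : ↥Λ₁) ∈ J.subgroupOf Λ₁ from hk)) ⟨_, hMle hM⟩ hM
      exact congrArg Subtype.val h3
    have hJJ := Solv.qs_self_commutator hJ.2
    have hτJ : cj J τ = J := by
      by_contra hne
      have hd := Subgroup.commutator_eq_bot_iff_le_centralizer.1
        (Solv.components_commute hJ (Solv.component_conj hJ τ) (Ne.symm hne))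
      refine Solv.qs_not_le_centralizer hJ.2 (Subgroup.commutator_eq_bot_iff_le_centralizer.2 fun j hj => ?_)
      refine Subgroup.mem_centralizer_iff.2 fun k hk => ?_
      have h1 := hcomm j hj k hk
      have h2 := Subgroup.mem_centralizer_iff.1 (hd hk) (τ * j⁻¹ * τ⁻¹) ⟨j⁻¹, inv_mem hj, rfl⟩
      rw [show ⁅j, τ⁆ = j * (τ * j⁻¹ * τ⁻¹) by rw [commutatorElement_def]; group, mul_assoc, h2, ← mul_assoc,
        ← mul_assoc k j] at h1
      exact (mul_right_cancel h1).symm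
    have hcJ : ∀ j ∈ J, ⁅j, τ⁆ ∈ J := fun j hj => by
      rw [commutatorElement_def, show j * τ * j⁻¹ * τ⁻¹ = j * (τ * j⁻¹ * τ⁻¹) by group]
      exact mul_mem hj (hτJ ▸ ⟨j⁻¹, inv_mem hj, rfl⟩)
    have hfix : J ≤ Subgroup.centralizer {τ} := by
      rw [← hJJ]
      refine Subgroup.commutator_le.2 fun j hj k hk => Subgroup.mem_centralizer_singleton_iff.2 ?_
      have hj' : τ * j * τ⁻¹ = ⁅j, τ⁆⁻¹ * j := by
        have e : Commute ⁅j, τ⁆ j⁻¹ := (show Commute ⁅j, τ⁆ j from hcomm j hj j hj).inv_right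
        have e2 : τ * j⁻¹ * τ⁻¹ = j⁻¹ * ⁅j, τ⁆ := by rw [commutatorElement_def]; group
        rw [show τ * j * τ⁻¹ = (τ * j⁻¹ * τ⁻¹)⁻¹ by group, e2, mul_inv_rev, inv_inv]
      have hk' : τ * k * τ⁻¹ = ⁅k, τ⁆⁻¹ * k := by
        have e2 : τ * k⁻¹ * τ⁻¹ = k⁻¹ * ⁅k, τ⁆ := by rw [commutatorElement_def]; group
        rw [show τ * k * τ⁻¹ = (τ * k⁻¹ * τ⁻¹)⁻¹ by group, e2, mul_inv_rev, inv_inv]
      have c1 : Commute ⁅j, τ⁆⁻¹ k := (show Commute ⁅j, τ⁆ k from hcomm j hj k hk).inv_left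
      have c2 : Commute ⁅k, τ⁆⁻¹ j := (show Commute ⁅k, τ⁆ j from hcomm k hk j hj).inv_left
      have c3 : Commute ⁅j, τ⁆⁻¹ ⁅k, τ⁆⁻¹ :=
        (show Commute ⁅j, τ⁆ ⁅k, τ⁆ from hcomm j hj _ (hcJ k hk)).inv_inv
      have e : τ * ⁅j, k⁆ * τ⁻¹ = ⁅j, k⁆ := by
        rw [show τ * ⁅j, k⁆ * τ⁻¹ = ⁅τ * j * τ⁻¹, τ * k * τ⁻¹⁆ by simp only [commutatorElement_def]; group,
          hj', hk']
        set x := ⁅j, τ⁆⁻¹ with hx
        set y := ⁅k, τ⁆⁻¹ with hy
        have c4 : Commute x (y * k) := c3.mul_right c1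
        calc ⁅x * j, y * k⁆ = x * (j * (y * k) * j⁻¹) * x⁻¹ * (y * k)⁻¹ := by rw [commutatorElement_def]; group
          _ = x * (y * (j * k * j⁻¹)) * x⁻¹ * (y * k)⁻¹ := by rw [← mul_assoc j, c2.symm.eq]; group
          _ = y * (j * k * j⁻¹) * (x * x⁻¹) * (y * k)⁻¹ := by
              have c5 : Commute x (j * k * j⁻¹) := by
                have cx : Commute x j := (show Commute ⁅j, τ⁆ j from hcomm j hj j hj).inv_left
                exact (cx.mul_right c1).mul_right cx.inv_right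
              rw [← mul_assoc x, (c3.eq), mul_assoc y x, c5.eq]; group
          _ = y * (j * k * j⁻¹ * k⁻¹) * y⁻¹ := by group
          _ = ⁅j, k⁆ := by
              have cy : Commute y k := (show Commute ⁅k, τ⁆ k from hcomm k hk k hk).inv_left
              rw [(((c2.mul_right cy).mul_right c2.inv_right).mul_right cy.inv_right).eq, commutatorElement_def]
              group
      exact (mul_inv_eq_iff_eq_mul.1 e).symm
    refine Solv.CoreSep.fixed_component_cent (T := Subgroup.zpowers (⟨a, haC₁⟩ : ↥C₁)) (Solv.CoreSep.zpowers_two ha2)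
      (by rw [Solv.CoreSep.cent_zpowers]; exact hVa) (by rw [Solv.CoreSep.cent_zpowers]; exact hVn) hVodd hJ ?_
      ⟨u, show u ∈ V from ⟨hzO, hzA⟩, rfl⟩
    intro t ht j hj
    obtain ⟨i, rfl⟩ := Subgroup.mem_zpowers_iff.1 ht
    have e1 : (⟨a, haC₁⟩ : ↥C₁) = ⟨a₁, h.le_centralizer_block hT (h.le T hT ha₁)⟩ * α := Subtype.ext hsplit
    have hjτ : Commute τ j := (Subgroup.mem_centralizer_singleton_iff.1 (hfix hj)).symm
    have hj1 : Commute (π₁ ⟨a₁, h.le_centralizer_block hT (h.le T hT ha₁)⟩) j := by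
      obtain ⟨y, rfl⟩ := QuotientGroup.mk'_surjective _ j
      exact (show Commute (⟨a₁, h.le_centralizer_block hT (h.le T hT ha₁)⟩ : ↥C₁) y from
        Subtype.ext (Subgroup.mem_centralizer_iff.1 y.2 a₁ ha₁)).map π₁
    rw [map_zpow, e1, map_mul]
    exact ((hj1.mul_left hjτ).zpow_left i).eq

/-- The `T`-fixed part of `th T a` lies in `O(C(T))`. -/
theorem th_fixed {T : Subgroup G} (hT : T ∈ B) {a : G} (ha : a ∈ A) :
    th T a ⊓ Subgroup.centralizer (T : Set G) ≤ coreS (T : Set G) := by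
  intro x hx'
  obtain ⟨hx, hxT⟩ := Subgroup.mem_inf.1 hx'
  have hle : oc a ⊓ coreS (T : Set G) ≤ Subgroup.normalizer ((⁅oc a, T⁆ : Subgroup G) : Set G) :=
    inf_le_left.trans (Solv.commutator_normal_in ((h.le T hT).trans (h.norm_oc ha))).2.1
  have hx : x ∈ ((⁅oc a, T⁆ ⊔ (oc a ⊓ coreS (T : Set G)) : Subgroup G) : Set G) := hx
  rw [Subgroup.coe_mul_of_right_le_normalizer_left _ _ hle] at hx
  obtain ⟨y, hy, c, hc, rfl⟩ := hx
  refine mul_mem (h.comm_fixed_le hT ha (Subgroup.mem_inf.2 ⟨hy, ?_⟩)) (Subgroup.mem_inf.1 hc).2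
  have e : y = y * c * c⁻¹ := by group
  rw [e]
  exact mul_mem hxT (inv_mem (coreS_le _ (Subgroup.mem_inf.1 hc).2))

end Sep

end Cfsg.Agent.Walter
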